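import Groth.Agent.KInj.Adjunction
import Groth.Agent.WayOut.Basic
import Mathlib.CategoryTheory.Localization.Adjunction
import Mathlib.Algebra.Homology.DerivedCategory.ExactFunctor
import Mathlib.CategoryTheory.Functor.Derived.RightDerived

/-!
# An adjunction of exact functors on derived categories
-/

universe w v u₁ u₂

open CategoryTheory CategoryTheory.Limits

set_option autoImplicit false
set_option backward.isDefEq.respectTransparency false
set_option backward.isDefEq.respectTransparency.types false
set_option linter.style.haveILetI false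

noncomputable section

namespace Groth.Agent.FSchTors

variable {A : Type u₁} [Category.{v} A] [Abelian A] {B : Type u₂} [Category.{v} B] [Abelian B]

/-- a natural transformation of exact functors which is an isomorphism on the cohomology -/
theorem quasiIsoAt_of_isIso_app {F G : A ⥤ B} [F.Additive] [G.Additive] [PreservesFiniteLimits F]
    [PreservesFiniteColimits F] [PreservesFiniteLimits G] [PreservesFiniteColimits G] (τ : F ⟶ G)
    (X : CochainComplex A ℤ) (i : ℤ) (h : IsIso (τ.app (X.homology i))) :
    QuasiIsoAt ((NatTrans.mapHomologicalComplex τ (ComplexShape.up ℤ)).app X) i := by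
  rw [quasiIsoAt_iff_isIso_homologyMap]
  have h1 := τ.app_homology (X.sc i)
  haveI : IsIso (((X.sc i).mapHomologyIso F).inv ≫ ShortComplex.homologyMap ((X.sc i).mapNatTrans τ) ≫
      ((X.sc i).mapHomologyIso G).hom) := by rw [← h1]; exact h
  haveI : IsIso (ShortComplex.homologyMap ((X.sc i).mapNatTrans τ) ≫ ((X.sc i).mapHomologyIso G).hom) :=
    IsIso.of_isIso_comp_left ((X.sc i).mapHomologyIso F).inv _
  exact (IsIso.of_isIso_comp_right _ ((X.sc i).mapHomologyIso G).hom :
    IsIso (ShortComplex.homologyMap ((X.sc i).mapNatTrans τ)))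

variable [HasDerivedCategory.{w} A] [HasDerivedCategory.{w} B] {F : A ⥤ B} {G : B ⥤ A} (adj : F ⊣ G)
  [F.Additive] [G.Additive] [PreservesFiniteLimits F] [PreservesFiniteColimits F] [PreservesFiniteLimits G]
  [PreservesFiniteColimits G]

/-- an adjunction of exact functors, on derived categories -/
def adjD : F.mapDerivedCategory ⊣ G.mapDerivedCategory :=
  letI : CatCommSq (F.mapHomologicalComplex (ComplexShape.up ℤ)) DerivedCategory.Q DerivedCategory.Q
    F.mapDerivedCategory := ⟨F.mapDerivedCategoryFactors.symm⟩
  letI : CatCommSq (G.mapHomologicalComplex (ComplexShape.up ℤ)) DerivedCategory.Q DerivedCategory.Q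
    G.mapDerivedCategory := ⟨G.mapDerivedCategoryFactors.symm⟩
  (KInj.mapHomologicalComplexAdj adj (ComplexShape.up ℤ)).localization DerivedCategory.Q
    (HomologicalComplex.quasiIso A (ComplexShape.up ℤ)) DerivedCategory.Q
    (HomologicalComplex.quasiIso B (ComplexShape.up ℤ)) F.mapDerivedCategory G.mapDerivedCategory

/-- the unit is invertible on complexes with cohomology where it is invertible -/
theorem isIso_unit_adjD (X : DerivedCategory A)
    (h : ∀ i, IsIso (adj.unit.app ((DerivedCategory.homologyFunctor A i).obj X))) :
    IsIso ((adjD adj).unit.app X) := by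
  let K := DerivedCategory.Q.objPreimage X
  let e : DerivedCategory.Q.obj K ≅ X := DerivedCategory.Q.objObjPreimageIso X
  suffices IsIso ((adjD adj).unit.app (DerivedCategory.Q.obj K)) from
    (NatTrans.isIso_app_iff_of_iso (adjD adj).unit e).1 this
  haveI : QuasiIso ((KInj.mapHomologicalComplexAdj adj (ComplexShape.up ℤ)).unit.app K) := ⟨fun i => by
    have h1 : IsIso (adj.unit.app (K.homology i)) :=
      (NatTrans.isIso_app_iff_of_iso adj.unit
        ((DerivedCategory.homologyFunctor A i).mapIso e.symm ≪≫ (DerivedCategory.homologyFunctorFactors A i).app K)).1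
        (h i)
    haveI : PreservesFiniteLimits (F ⋙ G) := comp_preservesFiniteLimits _ _
    haveI : PreservesFiniteColimits (F ⋙ G) := comp_preservesFiniteColimits _ _
    have h2 := quasiIsoAt_of_isIso_app (F := 𝟭 A) (G := F ⋙ G) adj.unit K i h1
    exact h2⟩
  haveI : IsIso (DerivedCategory.Q.map ((KInj.mapHomologicalComplexAdj adj (ComplexShape.up ℤ)).unit.app K)) :=
    Localization.inverts _ (HomologicalComplex.quasiIso A (ComplexShape.up ℤ)) _
      ((HomologicalComplex.mem_quasiIso_iff _).2 inferInstance)
  erw [Adjunction.localization_unit_app]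
  infer_instance

/-- the counit is invertible on complexes with cohomology where it is invertible -/
theorem isIso_counit_adjD (X : DerivedCategory B)
    (h : ∀ i, IsIso (adj.counit.app ((DerivedCategory.homologyFunctor B i).obj X))) :
    IsIso ((adjD adj).counit.app X) := by
  let K := DerivedCategory.Q.objPreimage X
  let e : DerivedCategory.Q.obj K ≅ X := DerivedCategory.Q.objObjPreimageIso X
  suffices IsIso ((adjD adj).counit.app (DerivedCategory.Q.obj K)) from
    (NatTrans.isIso_app_iff_of_iso (adjD adj).counit e).1 this
  haveI : QuasiIso ((KInj.mapHomologicalComplexAdj adj (ComplexShape.up ℤ)).counit.app K) := ⟨fun i => by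
    have h1 : IsIso (adj.counit.app (K.homology i)) :=
      (NatTrans.isIso_app_iff_of_iso adj.counit
        ((DerivedCategory.homologyFunctor B i).mapIso e.symm ≪≫ (DerivedCategory.homologyFunctorFactors B i).app K)).1
        (h i)
    haveI : PreservesFiniteLimits (G ⋙ F) := comp_preservesFiniteLimits _ _
    haveI : PreservesFiniteColimits (G ⋙ F) := comp_preservesFiniteColimits _ _
    have h2 := quasiIsoAt_of_isIso_app (F := G ⋙ F) (G := 𝟭 B) adj.counit K i h1
    exact h2⟩
  haveI : IsIso (DerivedCategory.Q.map ((KInj.mapHomologicalComplexAdj adj (ComplexShape.up ℤ)).counit.app K)) :=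
    Localization.inverts _ (HomologicalComplex.quasiIso B (ComplexShape.up ℤ)) _
      ((HomologicalComplex.mem_quasiIso_iff _).2 inferInstance)
  erw [Adjunction.localization_counit_app]
  infer_instance

/-- the left adjoint is fully faithful where the unit is invertible at the target -/
theorem bijective_map_left {C D : Type*} [Category C] [Category D] {L : C ⥤ D} {R : D ⥤ C} (a : L ⊣ R) (X Y : C)
    [IsIso (a.unit.app Y)] : Function.Bijective (fun φ : X ⟶ Y => L.map φ) := by
  have key : (fun φ : X ⟶ Y => a.homEquiv X (L.obj Y) (L.map φ)) = fun φ => φ ≫ a.unit.app Y :=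
    funext fun φ => (a.homEquiv_unit _ _ _).trans (a.unit.naturality φ).symm
  refine (Function.Bijective.of_comp_iff' (a.homEquiv X (L.obj Y)).bijective _).1 ?_
  rw [Function.comp_def, key]
  exact (Iso.homToEquiv (asIso (a.unit.app Y))).bijective

/-- the right adjoint is fully faithful where the counit is invertible at the source -/
theorem bijective_map_right {C D : Type*} [Category C] [Category D] {L : C ⥤ D} {R : D ⥤ C} (a : L ⊣ R) (X Y : D)
    [IsIso (a.counit.app X)] : Function.Bijective (fun φ : X ⟶ Y => R.map φ) := by
  have key : (fun φ : X ⟶ Y => (a.homEquiv (R.obj X) Y).symm (R.map φ)) = fun φ => a.counit.app X ≫ φ :=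
    funext fun φ => (a.homEquiv_counit _ _ _).trans (a.counit.naturality φ)
  refine (Function.Bijective.of_comp_iff' (a.homEquiv (R.obj X) Y).symm.bijective _).1 ?_
  rw [Function.comp_def, key]
  exact (Iso.homFromEquiv (asIso (a.counit.app X)).symm).bijective

theorem bijective_map_of_iso {C D : Type*} [Category C] [Category D] {F' G' : C ⥤ D} (e : F' ≅ G') {X Y : C}
    (h : Function.Bijective (fun φ : X ⟶ Y => G'.map φ)) : Function.Bijective (fun φ : X ⟶ Y => F'.map φ) := by
  have key : (fun φ : X ⟶ Y => F'.map φ) =
      fun φ => e.hom.app X ≫ G'.map φ ≫ e.inv.app Y :=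
    funext fun φ => by rw [← e.hom.naturality_assoc φ, Iso.hom_inv_id_app, Category.comp_id]
  rw [key]
  exact (((e.app X).symm.homCongr (e.app Y).symm).bijective).comp h

/-- the total right derived functor of an exact functor -/
theorem nonempty_rightDerived_iso
    [(G.mapHomotopyCategory (ComplexShape.up ℤ) ⋙ DerivedCategory.Qh).HasRightDerivedFunctor
      (HomotopyCategory.quasiIso B (ComplexShape.up ℤ))] :
    Nonempty ((G.mapHomotopyCategory (ComplexShape.up ℤ) ⋙ DerivedCategory.Qh).totalRightDerived DerivedCategory.Qh
      (HomotopyCategory.quasiIso B (ComplexShape.up ℤ)) ≅ G.mapDerivedCategory) := by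
  let α : G.mapHomotopyCategory (ComplexShape.up ℤ) ⋙ DerivedCategory.Qh ⟶
      DerivedCategory.Qh ⋙ G.mapDerivedCategory := G.mapDerivedCategoryFactorsh.inv
  haveI : G.mapDerivedCategory.IsRightDerivedFunctor α (HomotopyCategory.quasiIso B (ComplexShape.up ℤ)) :=
    Functor.isRightDerivedFunctor_of_inverts _ _ G.mapDerivedCategoryFactorsh
  exact ⟨Functor.rightDerivedUnique _ _
    (Functor.totalRightDerivedUnit _ DerivedCategory.Qh (HomotopyCategory.quasiIso B (ComplexShape.up ℤ))) α
    (HomotopyCategory.quasiIso B (ComplexShape.up ℤ))⟩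

end Groth.Agent.FSchTors
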