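import Groth.Agent.FSchTors.ComplQC
import Groth.Agent.FSchTors.ExactAdjD

/-!
# Derived inverse and direct images for a completion morphism with exact inverse image
-/

universe u

open CategoryTheory CategoryTheory.Limits AlgebraicGeometry

set_option autoImplicit false
set_option backward.isDefEq.respectTransparency false
set_option backward.isDefEq.respectTransparency.types false
set_option linter.style.haveILetI false

noncomputable section

namespace Groth.Agent.FSchTors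

attribute [local instance] HasDerivedCategory.standard

variable {X : Scheme.{u}} [IsLocallyNoetherian X] (𝓘 : X.IdealSheafData) (hX : (FSch.completionAlong X 𝓘).IsFormal)

instance preservesFiniteColimits_κpush : PreservesFiniteColimits (κC 𝓘 hX).push :=
  ClosedPush.preservesFiniteColimits (pC 𝓘) (cC 𝓘 hX) (isClosedEmbedding_pC 𝓘)

instance preservesFiniteLimits_κpush : PreservesFiniteLimits (κC 𝓘 hX).push :=
  haveI : PreservesLimitsOfSize.{0, 0} (κC 𝓘 hX).push := (κC 𝓘 hX).adj.rightAdjoint_preservesLimits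
  PreservesLimitsOfSize.preservesFiniteLimits _

omit [IsLocallyNoetherian X] in
/-- the derived direct image is computed termwise -/
theorem nonempty_rpush_iso [SiteCmp.HasRpushD (κC 𝓘 hX)] :
    Nonempty (SiteCmp.RpushD (κC 𝓘 hX) ≅ (κC 𝓘 hX).push.mapDerivedCategory) :=
  nonempty_rightDerived_iso (G := (κC 𝓘 hX).push)

/-- cohomology of the derived direct image -/
theorem nonempty_HMod_rpush [SiteCmp.HasRpushD (κC 𝓘 hX)]
    (G : DerivedCategory (FSch.ModF (FSch.completionAlong X 𝓘) hX)) (i : ℤ) :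
    Nonempty (SiteCmp.HMod ((SiteCmp.RpushD (κC 𝓘 hX)).obj G) i ≅ (κC 𝓘 hX).push.obj (SiteCmp.HMod G i)) := by
  obtain ⟨e⟩ := nonempty_rpush_iso 𝓘 hX
  exact ⟨(DerivedCategory.homologyFunctor _ i).mapIso (e.app G) ≪≫ WayOut.mapDerivedHomologyIso _ G i⟩

omit [IsLocallyNoetherian X] in
theorem isTorsZp_of_iso {N N' : ModSite.Mod X.sheaf} (e : N ≅ N') (h : FTors.IsTorsZp X 𝓘 N') :
    FTors.IsTorsZp X 𝓘 N := fun V t => by
  have h1 : t = RSFin.ap e.inv V (RSFin.ap e.hom V t) := by rw [← RSFin.ap_comp, e.hom_inv_id, RSFin.ap_id]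
  rw [h1]
  exact (h V _).hom e.inv

omit [IsLocallyNoetherian X] in
theorem isTorsF_of_iso {M M' : FSch.ModF (FSch.completionAlong X 𝓘) hX} (e : M ≅ M')
    (h : FTors.IsTorsF (FSch.completionAlong X 𝓘) hX M') : FTors.IsTorsF (FSch.completionAlong X 𝓘) hX M :=
  fun V t => by
    have h1 : t = RSFin.ap e.inv V (RSFin.ap e.hom V t) := by rw [← RSFin.ap_comp, e.hom_inv_id, RSFin.ap_id]
    rw [h1]
    exact (h V _).hom e.inv

variable [PreservesFiniteLimits (κC 𝓘 hX).pull]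

instance preservesFiniteColimits_κpull : PreservesFiniteColimits (κC 𝓘 hX).pull :=
  haveI : PreservesColimitsOfSize.{0, 0} (κC 𝓘 hX).pull := (κC 𝓘 hX).adj.leftAdjoint_preservesColimits
  PreservesColimitsOfSize.preservesFiniteColimits _

/-- cohomology of the derived inverse image -/
def HModPullIso (F : DerivedCategory (ModSite.Mod X.sheaf)) (i : ℤ) :
    SiteCmp.HMod ((SiteCmp.pullD (κC 𝓘 hX)).obj F) i ≅ (κC 𝓘 hX).pull.obj (SiteCmp.HMod F i) :=
  WayOut.mapDerivedHomologyIso _ F i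

theorem isDTorsF_pullD {F : DerivedCategory (ModSite.Mod X.sheaf)} (hF : FTors.IsDTorsZp X 𝓘 F) :
    FTors.IsDTorsF (FSch.completionAlong X 𝓘) hX ((SiteCmp.pullD (κC 𝓘 hX)).obj F) :=
  fun i => isTorsF_of_iso 𝓘 hX (HModPullIso 𝓘 hX F i) (isTorsF_pull 𝓘 hX (hF i))

theorem isDQCT_pullD {F : DerivedCategory (ModSite.Mod X.sheaf)} (hF : FTors.IsDTorsZp X 𝓘 F)
    (hq : ∀ i : ℤ, SheafOfModules.IsQuasicoherent.{u} (SiteCmp.HMod F i)) :
    FTors.IsDQCT (FSch.completionAlong X 𝓘) hX ((SiteCmp.pullD (κC 𝓘 hX)).obj F) :=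
  fun i => ⟨isDTorsF_pullD 𝓘 hX hF i,
    (SheafOfModules.isQuasicoherent (ModSite.ringSh ((FSch.completionAlong X 𝓘).Osh hX))).prop_of_iso (HModPullIso 𝓘 hX F i).symm
      (isQCT_pull 𝓘 hX (hF i) (hq i)).2⟩

omit [PreservesFiniteLimits (κC 𝓘 hX).pull] in
theorem isDTorsZp_rpush [SiteCmp.HasRpushD (κC 𝓘 hX)]
    {G : DerivedCategory (FSch.ModF (FSch.completionAlong X 𝓘) hX)}
    (hG : FTors.IsDTorsF (FSch.completionAlong X 𝓘) hX G) :
    FTors.IsDTorsZp X 𝓘 ((SiteCmp.RpushD (κC 𝓘 hX)).obj G) := fun i => by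
  obtain ⟨e⟩ := nonempty_HMod_rpush 𝓘 hX G i
  exact isTorsZp_of_iso 𝓘 e (isTorsZp_push 𝓘 hX (hG i))

omit [PreservesFiniteLimits (κC 𝓘 hX).pull] in
theorem isQCoh_HMod_rpush [SiteCmp.HasRpushD (κC 𝓘 hX)]
    {G : DerivedCategory (FSch.ModF (FSch.completionAlong X 𝓘) hX)}
    (hG : FTors.IsDQCT (FSch.completionAlong X 𝓘) hX G) (i : ℤ) :
    SheafOfModules.IsQuasicoherent.{u} (SiteCmp.HMod ((SiteCmp.RpushD (κC 𝓘 hX)).obj G) i) := by
  obtain ⟨e⟩ := nonempty_HMod_rpush 𝓘 hX G i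
  exact (SheafOfModules.isQuasicoherent (ModSite.ringSh X.sheaf)).prop_of_iso e.symm (isQCoh_push 𝓘 hX (hG i))

omit [PreservesFiniteLimits (κC 𝓘 hX).pull] in
theorem isCoh_HMod_rpush [SiteCmp.HasRpushD (κC 𝓘 hX)]
    {G : DerivedCategory (FSch.ModF (FSch.completionAlong X 𝓘) hX)}
    (hG : FTors.IsDQCT (FSch.completionAlong X 𝓘) hX G) (i : ℤ)
    (hc : FSch.IsCohF (FSch.completionAlong X 𝓘) hX (SiteCmp.HMod G i)) :
    Coh.IsCoh (X := X) (SiteCmp.HMod ((SiteCmp.RpushD (κC 𝓘 hX)).obj G) i) := by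
  obtain ⟨e⟩ := nonempty_HMod_rpush 𝓘 hX G i
  have h := isCoh_push 𝓘 hX (hG i) hc
  exact QC.isCoh_of_epi h (isQCoh_HMod_rpush 𝓘 hX hG i) e.inv

theorem bijective_rpush_map [SiteCmp.HasRpushD (κC 𝓘 hX)]
    (G H : DerivedCategory (FSch.ModF (FSch.completionAlong X 𝓘) hX))
    (hG : FTors.IsDTorsF (FSch.completionAlong X 𝓘) hX G) :
    Function.Bijective (fun φ : G ⟶ H => (SiteCmp.RpushD (κC 𝓘 hX)).map φ) := by
  obtain ⟨e⟩ := nonempty_rpush_iso 𝓘 hX
  haveI := isIso_counit_adjD (κC 𝓘 hX).adj G fun i => isIso_counitC 𝓘 hX (hG i)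
  exact bijective_map_of_iso e (bijective_map_right (adjD (κC 𝓘 hX).adj) G H)

theorem bijective_pullD_map_of_target (E F : DerivedCategory (ModSite.Mod X.sheaf))
    (hF : FTors.IsDTorsZp X 𝓘 F) :
    Function.Bijective (fun φ : E ⟶ F => (SiteCmp.pullD (κC 𝓘 hX)).map φ) := by
  haveI := isIso_unit_adjD (κC 𝓘 hX).adj F fun i => isIso_unitC 𝓘 hX (hF i)
  exact bijective_map_left (adjD (κC 𝓘 hX).adj) E F

end Groth.Agent.FSchTors
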