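import Groth.Agent.FSchTors.ComplUnit
import Groth.Agent.FSchCoh.Coh
import Groth.Agent.QC.Coherent
import Groth.Agent.PullFlat.PullLocal

/-!
# Quasi-coherent torsion modules on a completion and their direct images
-/

universe u

open CategoryTheory CategoryTheory.Limits AlgebraicGeometry TopologicalSpace Opposite
open Groth.Agent.RSFin (sc rs rsR)

set_option autoImplicit false
set_option backward.isDefEq.respectTransparency false
set_option backward.isDefEq.respectTransparency.types false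
set_option linter.style.haveILetI false

noncomputable section

namespace Groth.Agent.FSchTors

open FSchCoh (OA JA projR)

variable {X : Scheme.{u}} [IsLocallyNoetherian X] (𝓘 : X.IdealSheafData) (hX : (FSch.completionAlong X 𝓘).IsFormal)

omit [IsLocallyNoetherian X] in
theorem isDist_basicOpen {W : X.Opens} (hW : IsAffineOpen W) (f : Γ(X, W)) :
    FSchCoh.IsDist (FSch.completionAlong X 𝓘) hX (preC 𝓘 W) (compR 𝓘 hX W f) (preC 𝓘 (X.basicOpen f)) := by
  refine ⟨(FSch.completionToX X 𝓘 0).preimage_mono (X.basicOpen_le f),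
    (hW.basicOpen f).preimage (FSch.completionToX X 𝓘 0), fun n => ?_⟩
  rw [FSchCoh.lvU_g (FSch.completionAlong X 𝓘) (FSch.completionToX X 𝓘) (FSchCoh.completion_hg 𝓘) hX _ n,
    projR_compR, Scheme.preimage_basicOpen, Scheme.Hom.appLE, CommRingCat.comp_apply, Scheme.basicOpen_res]
  refine (inf_eq_right.2 ?_).symm
  exact (Scheme.basicOpen_le _ _).trans
    (FSchCoh.lvU_g (FSch.completionAlong X 𝓘) (FSch.completionToX X 𝓘) (FSchCoh.completion_hg 𝓘) hX W n).ge

/-- direct images of quasi-coherent torsion modules are quasi-coherent -/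
theorem isQCoh_push {M : FSch.ModF (FSch.completionAlong X 𝓘) hX}
    (hM : FTors.IsQCT (FSch.completionAlong X 𝓘) hX M) : Coh.IsQCoh (X := X) ((κC 𝓘 hX).push.obj M) := by
  have h𝔛 := S3854.result X 𝓘
  have hQ := FSchCoh.qt_of_isQCT h𝔛 hM.1 hM.2
  refine QC.isQCoh_iff_isLoc.2 fun W => ?_
  refine ⟨fun f t => ?_, fun f s hs => ?_⟩
  · obtain ⟨n, s, hs⟩ := hQ.ext (W.2.preimage (FSch.completionToX X 𝓘 0)) (isDist_basicOpen 𝓘 hX W.2 f) t
    refine ⟨n, s, hs.trans ?_⟩
    refine Eq.trans ?_ (smul_push 𝓘 hX M _ (show ModSite.sect M (preC 𝓘 (X.basicOpen f)) from t)).symm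
    refine congrArg (fun r : sc ((FSch.completionAlong X 𝓘).Osh hX) (preC 𝓘 (X.basicOpen f)) =>
      r • (show ModSite.sect M (preC 𝓘 (X.basicOpen f)) from t)) ?_
    rw [map_pow]
    exact congrArg (· ^ n) (compR_res 𝓘 hX (X.basicOpen_le f) f).symm
  · obtain ⟨n, hn⟩ := hQ.zero (W.2.preimage (FSch.completionToX X 𝓘 0)) (isDist_basicOpen 𝓘 hX W.2 f) s hs
    refine ⟨n, (smul_push 𝓘 hX M _ (show ModSite.sect M (preC 𝓘 W.1) from s)).trans ?_⟩
    rw [map_pow]
    exact hn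

theorem exists_gens {M : FSch.ModF (FSch.completionAlong X 𝓘) hX}
    (hM : FSch.IsCohF (FSch.completionAlong X 𝓘) hX M) {U : ((FSch.completionAlong X 𝓘).X 0).Opens}
    (hU : IsAffineOpen U) :
    ∃ (k : ℕ) (g : Fin k → ModSite.sect M U), ∀ t : ModSite.sect M U,
      ∃ c : Fin k → sc ((FSch.completionAlong X 𝓘).Osh hX) U, ∑ i, c i • g i = t := by
  have h𝔛 := S3854.result X 𝓘
  haveI := FSchCoh.isIso_toReal (𝔛 := FSch.completionAlong X 𝓘) h𝔛 hM
  let e := FSchCoh.toReal (FSch.completionAlong X 𝓘) hX M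
  have hfin := (FSchCoh.main_mod (FSch.completionAlong X 𝓘) hX _ h𝔛
    (FSchCoh.isCoh_pullSys (FSch.completionAlong X 𝓘) hX M h𝔛 hM) hU).1
  obtain ⟨k, g, hg⟩ := Submodule.fg_iff_exists_fin_generating_family.1 hfin.fg_top
  refine ⟨k, fun i => RSFin.ap (inv e) U (g i), fun t => ?_⟩
  obtain ⟨c, hc⟩ := (Submodule.mem_span_range_iff_exists_fun _).1 (hg.ge (Submodule.mem_top (x := RSFin.ap e U t)))
  refine ⟨c, ?_⟩
  have h1 := congrArg (RSFin.ap (inv e) U) hc
  rw [map_sum] at h1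
  refine Eq.trans ?_ (h1.trans ((RSFin.ap_comp e (inv e) U t).symm.trans (by rw [IsIso.hom_inv_id, RSFin.ap_id])))
  exact Finset.sum_congr rfl fun i _ => ((inv e).val.app (op U)).hom.map_smul (c i) (g i) |>.symm

theorem isCoh_push {M : FSch.ModF (FSch.completionAlong X 𝓘) hX}
    (hM : FTors.IsQCT (FSch.completionAlong X 𝓘) hX M) (hc : FSch.IsCohF (FSch.completionAlong X 𝓘) hX M) :
    Coh.IsCoh (X := X) ((κC 𝓘 hX).push.obj M) := by
  classical
  have h𝔛 := S3854.result X 𝓘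
  refine QC.isCoh_iff_finite_sections.2 ⟨isQCoh_push 𝓘 hX hM, fun W => ?_⟩
  have hU := W.2.preimage (FSch.completionToX X 𝓘 0)
  obtain ⟨k, g, hg⟩ := exists_gens 𝓘 hX hc hU
  obtain ⟨n, hn⟩ := FSchCoh.exists_uniform h𝔛 g fun i => FSchCoh.torsAff_of_isTors h𝔛 hM.1 hU (g i)
  refine ⟨⟨Finset.univ.image fun i =>
    (show Γ(((κC 𝓘 hX).push.obj M : X.Modules), W.1) from g i), eq_top_iff.2 fun t _ => ?_⟩⟩
  obtain ⟨c, hct⟩ := hg (show ModSite.sect M (preC 𝓘 W.1) from t)
  choose r hr using fun i => exists_sub_mem_JA 𝓘 hX W.2 n (c i)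
  have he : t = ∑ i, r i • (show Γ(((κC 𝓘 hX).push.obj M : X.Modules), W.1) from g i) := by
    refine hct.symm.trans ?_
    refine Finset.sum_congr rfl fun i _ => Eq.trans ?_ (smul_push 𝓘 hX M (r i) (g i)).symm
    rw [← sub_eq_zero, ← sub_smul]
    exact hn i _ (hr i)
  rw [he]
  exact Submodule.sum_mem _ fun i _ => Submodule.smul_mem _ _ (Submodule.subset_span (by simp))

theorem isQCT_pull {N : ModSite.Mod X.sheaf} (hN : FTors.IsTorsZp X 𝓘 N)
    (hq : SheafOfModules.IsQuasicoherent.{u} N) :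
    FTors.IsQCT (FSch.completionAlong X 𝓘) hX ((κC 𝓘 hX).pull.obj N) := by
  haveI : SheafOfModules.IsQuasicoherent.{u} (R := ModSite.ringSh X.sheaf) N := hq
  exact ⟨isTorsF_pull 𝓘 hX hN, PullFlat.isQuasicoherent_pull (κC 𝓘 hX)⟩

end Groth.Agent.FSchTors
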