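import Groth.Agent.KInj.Adjunction
import Mathlib.CategoryTheory.Triangulated.Orthogonal
import Mathlib.Algebra.Homology.HomotopyCategory.Triangulated

/-!
# Right derived functors on the derived category send triangles to triangles
-/

set_option autoImplicit false
set_option linter.style.haveILetI false
set_option backward.isDefEq.respectTransparency false
set_option backward.isDefEq.respectTransparency.types false
set_option maxHeartbeats 1000000

universe w w' v v' u u'

open CategoryTheory Category Limits Opposite Pretriangulated DerivedCategory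

namespace Groth.Agent.FSchTors

variable {A : Type u} [Category.{v} A] [Abelian A] [HasDerivedCategory.{w} A]
  {B : Type u'} [Category.{v'} B] [Abelian B] [HasDerivedCategory.{w'} B]
  (F : A ⥤ B) [F.Additive] (R : DerivedCategory A ⥤ DerivedCategory B)
  (α : F.mapHomotopyCategory (ComplexShape.up ℤ) ⋙ DerivedCategory.Qh ⟶ DerivedCategory.Qh ⋙ R)

theorem exists_derived_triangle
    (hK : ∀ K : CochainComplex A ℤ, ∃ (I : CochainComplex A ℤ) (f : K ⟶ I), I.IsKInjective ∧ QuasiIso f)
    (hα : ∀ I, KInj.kinjProp A I → IsIso (α.app I)) {X Y E : DerivedCategory A} (g₁ : X ⟶ Y) (g₂ : Y ⟶ E)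
    (g₃ : E ⟶ X⟦(1 : ℤ)⟧) (hT : Triangle.mk g₁ g₂ g₃ ∈ distinguishedTriangles) :
    ∃ c, Triangle.mk (R.map g₁) (R.map g₂) c ∈ distinguishedTriangles := by
  have hdef := KInj.isDeforming_Qh hK (F.mapHomotopyCategory (ComplexShape.up ℤ) ⋙ DerivedCategory.Qh)
  obtain ⟨I, hI, ⟨eI⟩⟩ := hdef.res Y
  obtain ⟨L, hL, ⟨eL⟩⟩ := hdef.res E
  obtain ⟨φ, hφ⟩ := hdef.surj hL (eI.inv ≫ g₂ ≫ eL.hom)
  obtain ⟨W, a, b, h⟩ := distinguished_cocone_triangle₁ φ
  have hW : KInj.kinjProp A W := by
    let P := (HomotopyCategory.subcategoryAcyclic A).rightOrthogonal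
    have hI' : P I := (CochainComplex.isKInjective_iff_rightOrthogonal I.as).1 hI
    have hL' : P L := (CochainComplex.isKInjective_iff_rightOrthogonal L.as).1 hL
    have hF' := P.ext_of_isTriangulatedClosed₁' _ h hI' hL'
    rw [P.isoClosure_eq_self] at hF'
    exact (CochainComplex.isKInjective_iff_rightOrthogonal W.as).2 hF'
  have h1 := DerivedCategory.Qh.map_distinguished (Triangle.mk a φ b) h
  have h2 := DerivedCategory.Qh.map_distinguished _
    ((F.mapHomotopyCategory (ComplexShape.up ℤ)).map_distinguished (Triangle.mk a φ b) h)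
  have hφ' : DerivedCategory.Qh.map φ ≫ eL.inv = eI.inv ≫ g₂ := by rw [hφ]; simp
  obtain ⟨e, he₂⟩ : ∃ e : DerivedCategory.Qh.obj W ≅ X,
      e.hom ≫ g₁ = DerivedCategory.Qh.map a ≫ eI.inv := by
    let iso := isoTriangleOfIso₁₂ _ _ (rot_of_distTriang _ h1) (rot_of_distTriang _ hT) eI.symm eL.symm hφ'
    let e₁ : DerivedCategory.Qh.obj W ≅ X :=
      (shiftFunctor (DerivedCategory A) (1 : ℤ)).preimageIso (Triangle.π₃.mapIso iso)
    refine ⟨e₁, (shiftFunctor (DerivedCategory A) (1 : ℤ)).map_injective ?_⟩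
    have h3 : (-(DerivedCategory.Qh.map a)⟦(1 : ℤ)⟧') ≫ eI.inv⟦(1 : ℤ)⟧' = iso.hom.hom₃ ≫ (-g₁⟦(1 : ℤ)⟧') :=
      iso.hom.comm₃
    have h4 := neg_inj.1 ((Preadditive.neg_comp _ _).symm.trans (h3.trans (Preadditive.comp_neg _ _)))
    have h5 : (shiftFunctor (DerivedCategory A) (1 : ℤ)).map e₁.hom = iso.hom.hom₃ :=
      Functor.map_preimage _ _
    rw [Functor.map_comp, Functor.map_comp]
    exact (congrArg (· ≫ _) h5).trans h4.symm
  let G := F.mapHomotopyCategory (ComplexShape.up ℤ) ⋙ DerivedCategory.Qh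
  let eF : G.obj W ≅ R.obj X := @asIso _ _ _ _ (α.app W) (hα W hW) ≪≫ R.mapIso e
  let eI' : G.obj I ≅ R.obj Y := @asIso _ _ _ _ (α.app I) (hα I hI) ≪≫ R.mapIso eI.symm
  let eL' : G.obj L ≅ R.obj E := @asIso _ _ _ _ (α.app L) (hα L hL) ≪≫ R.mapIso eL.symm
  have c₁ : G.map a ≫ eI'.hom = eF.hom ≫ R.map g₁ := by
    simp only [eF, eI', G, Iso.trans_hom, asIso_hom, Functor.mapIso_hom, Iso.symm_hom, Category.assoc]
    rw [α.naturality_assoc a, Functor.comp_map]
    simp only [← Functor.map_comp, he₂]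
  have c₂ : G.map φ ≫ eL'.hom = eI'.hom ≫ R.map g₂ := by
    simp only [eL', eI', G, Iso.trans_hom, asIso_hom, Functor.mapIso_hom, Iso.symm_hom, Category.assoc]
    rw [α.naturality_assoc φ, Functor.comp_map]
    simp only [← Functor.map_comp, hφ']
  let w : G.obj L ⟶ (G.obj W)⟦(1 : ℤ)⟧ :=
    (DerivedCategory.Qh.mapTriangle.obj
      ((F.mapHomotopyCategory (ComplexShape.up ℤ)).mapTriangle.obj (Triangle.mk a φ b))).mor₃
  refine ⟨eL'.inv ≫ w ≫ eF.hom⟦(1 : ℤ)⟧', isomorphic_distinguished _ h2 _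
    (Triangle.isoMk _ _ eF eI' eL' c₁ c₂ ?_).symm⟩
  exact (eL'.hom_inv_id_assoc _).symm

theorem additive_of_preservesCoproducts {C D : Type*} [Category C] [Category D] [Preadditive C] [Preadditive D]
    [HasBinaryBiproducts C] [HasZeroObject C] [HasZeroObject D] (G : C ⥤ D)
    [PreservesColimitsOfShape (Discrete WalkingPair) G] [PreservesColimit (Functor.empty.{0} C) G] :
    G.Additive := by
  haveI : G.PreservesZeroMorphisms := Functor.preservesZeroMorphisms_of_map_zero_object
    ((IsInitial.isInitialObj G _ HasZeroObject.zeroIsInitial).uniqueUpToIso HasZeroObject.zeroIsInitial)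
  haveI : PreservesBinaryBiproducts G := preservesBinaryBiproducts_of_preservesBinaryCoproducts G
  exact Functor.additive_of_preservesBinaryBiproducts G

end Groth.Agent.FSchTors
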