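import Groth.Agent.FSchTors.Coprod
import Groth.Agent.FSchTors.Triangle
import Groth.Agent.FSchCoh.IndBrown

/-!
# The right adjoint of `RΓ'` and its restriction to `D̃_qc → D_qct`
-/

universe u

open CategoryTheory CategoryTheory.Limits Pretriangulated AlgebraicGeometry TopologicalSpace Opposite

set_option autoImplicit false
set_option backward.isDefEq.respectTransparency false
set_option backward.isDefEq.respectTransparency.types false
set_option linter.style.haveILetI false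

attribute [local instance] HasDerivedCategory.standard

noncomputable section

namespace Groth.Agent.FSchTors

variable {𝔛 : FSch.Sys.{u}} (h𝔛 : 𝔛.IsLocNoethFormal) [FTors.HasRgammaT 𝔛 h𝔛.1]

theorem additive_RgammaT : (FTors.RgammaT 𝔛 h𝔛.1).Additive := by
  haveI := fun ι => preservesCoproducts_RgammaT h𝔛 ι
  haveI : PreservesColimitsOfShape (Discrete WalkingPair) (FTors.RgammaT 𝔛 h𝔛.1) :=
    preservesColimitsOfShape_of_equiv (Discrete.equivalence Equiv.ulift.{u}) _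
  haveI : PreservesColimitsOfShape (Discrete PEmpty.{1}) (FTors.RgammaT 𝔛 h𝔛.1) :=
    preservesColimitsOfShape_of_equiv (Discrete.equivalence Equiv.ulift.{u}) _
  exact additive_of_preservesCoproducts _

theorem isLeftAdjoint_RgammaT : (FTors.RgammaT 𝔛 h𝔛.1).IsLeftAdjoint := by
  haveI : IsGrothendieckAbelian.{u} (FSch.ModF 𝔛 h𝔛.1) := KFlat.isGrothendieck (𝔛.Osh h𝔛.1)
  haveI := additive_RgammaT h𝔛
  refine FSchCoh.isLeftAdjoint_standard _ (fun T hT => ?_) fun ι => preservesCoproducts_RgammaT h𝔛 ι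
  exact exists_derived_triangle (FTors.gammaT 𝔛 h𝔛.1) (FTors.RgammaT 𝔛 h𝔛.1)
    ((FTors.gammaKh (FTors.openIdealFam 𝔛 h𝔛.1)).totalRightDerivedUnit DerivedCategory.Qh
      (HomotopyCategory.quasiIso (FSch.ModF 𝔛 h𝔛.1) (ComplexShape.up ℤ)))
    (fun K => by obtain ⟨J, u, h1, h2, -⟩ := exists_kinj h𝔛 K; exact ⟨J, u, h1, h2⟩)
    (fun I hI => (isDeforming h𝔛).isIso_app (HomotopyCategory.quasiIso (FSch.ModF 𝔛 h𝔛.1) (ComplexShape.up ℤ)) _ _ hI)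
    T.mor₁ T.mor₂ T.mor₃ hT

theorem bijective_comp_ε {E : DerivedCategory (FSch.ModF 𝔛 h𝔛.1)} (hE : FTors.IsDTorsF 𝔛 h𝔛.1 E)
    (F : DerivedCategory (FSch.ModF 𝔛 h𝔛.1)) :
    Function.Bijective fun φ : E ⟶ (FTors.RgammaT 𝔛 h𝔛.1).obj F => φ ≫ (FTors.RgammaTε 𝔛 h𝔛.1).app F := by
  haveI := isIso_ε h𝔛 hE
  have n : ∀ {X Y : DerivedCategory (FSch.ModF 𝔛 h𝔛.1)} (f : X ⟶ Y),
      (FTors.RgammaT 𝔛 h𝔛.1).map f ≫ (FTors.RgammaTε 𝔛 h𝔛.1).app Y = (FTors.RgammaTε 𝔛 h𝔛.1).app X ≫ f :=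
    fun f => (FTors.RgammaTε 𝔛 h𝔛.1).naturality f
  refine Function.bijective_iff_has_inverse.2
    ⟨fun ψ => inv ((FTors.RgammaTε 𝔛 h𝔛.1).app E) ≫ (FTors.RgammaT 𝔛 h𝔛.1).map ψ, fun φ => ?_, fun ψ => ?_⟩
  · simp only
    rw [IsIso.inv_comp_eq, Functor.map_comp, map_ε_eq h𝔛 F]
    exact n φ
  · simp only [Category.assoc]
    rw [IsIso.inv_comp_eq]
    exact n ψ

variable {R : DerivedCategory (FSch.ModF 𝔛 h𝔛.1) ⥤ DerivedCategory (FSch.ModF 𝔛 h𝔛.1)}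
  (Λ : FTors.RgammaT 𝔛 h𝔛.1 ⊣ R)

include Λ in
/-- `RΓ' Λ Y → Y` is an isomorphism on torsion objects -/
theorem isIso_counit {Y : DerivedCategory (FSch.ModF 𝔛 h𝔛.1)} (hY : FTors.IsDTorsF 𝔛 h𝔛.1 Y) :
    IsIso (Λ.counit.app Y) := by
  have hb : ∀ E, FTors.IsDTorsF 𝔛 h𝔛.1 E →
      Function.Bijective fun ψ : E ⟶ (FTors.RgammaT 𝔛 h𝔛.1).obj (R.obj Y) => ψ ≫ Λ.counit.app Y := fun E hE => by
    haveI := isIso_ε h𝔛 hE
    refine ((Function.Bijective.of_comp_iff' (f := fun z => (FTors.RgammaTε 𝔛 h𝔛.1).app E ≫ z) ?_ _).1 ?_)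
    · exact Function.bijective_iff_has_inverse.2 ⟨fun z => inv ((FTors.RgammaTε 𝔛 h𝔛.1).app E) ≫ z,
        fun z => IsIso.inv_hom_id_assoc _ z, fun z => IsIso.hom_inv_id_assoc _ z⟩
    · have e : (fun z : E ⟶ Y => (FTors.RgammaTε 𝔛 h𝔛.1).app E ≫ z) ∘
          (fun ψ : E ⟶ (FTors.RgammaT 𝔛 h𝔛.1).obj (R.obj Y) => ψ ≫ Λ.counit.app Y) =
          (Λ.homEquiv E Y).symm ∘ fun ψ => ψ ≫ (FTors.RgammaTε 𝔛 h𝔛.1).app (R.obj Y) := by
        funext ψ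
        simp only [Function.comp_apply, Adjunction.homEquiv_counit, Functor.map_comp, map_ε_eq h𝔛]
        rw [Category.assoc]
        exact ((reassoc_of% (FTors.RgammaTε 𝔛 h𝔛.1).naturality ψ) _).symm
      exact Eq.mpr (congrArg Function.Bijective e)
        ((Λ.homEquiv E Y).symm.bijective.comp (bijective_comp_ε h𝔛 hE _))
  obtain ⟨s, hs⟩ := (hb Y hY).2 (𝟙 Y)
  simp only at hs
  refine ⟨s, (hb _ (isDTors_RgammaT h𝔛 _)).1 ?_, hs⟩
  show (Λ.counit.app Y ≫ s) ≫ Λ.counit.app Y = 𝟙 _ ≫ Λ.counit.app Y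
  exact ((Category.assoc _ _ _).trans ((congrArg (Λ.counit.app Y ≫ ·) hs).trans (Category.comp_id _))).trans
    (Category.id_comp _).symm

end Groth.Agent.FSchTors
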