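import Groth.Agent.FSchTors.ComplTors
import Groth.Agent.FSchTors.Right

/-!
# `RΓ` on a scheme and on its completion
-/

universe u

open CategoryTheory CategoryTheory.Limits AlgebraicGeometry

set_option autoImplicit false
set_option backward.isDefEq.respectTransparency false
set_option backward.isDefEq.respectTransparency.types false
set_option linter.style.haveILetI false

attribute [local instance] HasDerivedCategory.standard

noncomputable section

namespace Groth.Agent.FSchTors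

section Generic

variable {C : Type*} [Category C] {G : C ⥤ C} (ε : G ⟶ 𝟭 C)

/-- a comparison with `G A` for a morphism from a fixed object inverted by `G` -/
theorem existsUnique_iso_left {T A : C} (f : T ⟶ A) [IsIso (ε.app T)] [IsIso (G.map f)]
    (hinj : Function.Injective fun φ : T ⟶ G.obj A => φ ≫ ε.app A) :
    ∃! e : T ≅ G.obj A, e.hom ≫ ε.app A = f := by
  have n : G.map f ≫ ε.app A = ε.app T ≫ f := ε.naturality f
  refine ⟨(asIso (ε.app T)).symm ≪≫ asIso (G.map f), ?_, fun e he => Iso.ext (hinj ?_)⟩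
  · simp only [Iso.trans_hom, Iso.symm_hom, asIso_inv, asIso_hom, Category.assoc, n, IsIso.inv_hom_id_assoc]
  · simp only [Iso.trans_hom, Iso.symm_hom, asIso_inv, asIso_hom, Category.assoc, n, IsIso.inv_hom_id_assoc]
    exact he

/-- the inverse comparison -/
theorem existsUnique_iso_right {T A : C} (f : T ⟶ A) [IsIso (ε.app T)] [IsIso (G.map f)]
    (hinj : Function.Injective fun φ : T ⟶ G.obj A => φ ≫ ε.app A) :
    ∃! e : G.obj A ≅ T, e.hom ≫ f = ε.app A := by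
  obtain ⟨e, he, hu⟩ := existsUnique_iso_left ε f hinj
  refine ⟨e.symm, ?_, fun e' he' => ?_⟩
  · show e.inv ≫ f = _
    rw [Iso.inv_comp_eq]
    exact he.symm
  · have := hu e'.symm (by show e'.inv ≫ ε.app A = f; rw [Iso.inv_comp_eq]; exact he'.symm)
    rw [← this]
    exact Iso.ext rfl

theorem isIso_map_of_square {C' : Type*} [Category C'] (H : C ⥤ C') {A B A' B' : C} (a : A ⟶ B) (b : B ⟶ B')
    (a' : A ⟶ A') (b' : A' ⟶ B') (h : a ≫ b = a' ≫ b') [IsIso (H.map a)] [IsIso (H.map a')] [IsIso (H.map b')] :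
    IsIso (H.map b) := by
  haveI : IsIso (H.map a ≫ H.map b) := by rw [← H.map_comp, h, H.map_comp]; infer_instance
  exact IsIso.of_isIso_comp_left (H.map a) _

end Generic

section Exact

variable {A B : Type (u + 1)} [Category.{u} A] [Abelian A] [Category.{u} B] [Abelian B] (F : A ⥤ B) [F.Additive]
  [PreservesFiniteLimits F] [PreservesFiniteColimits F]

/-- an exact functor on the images of complexes -/
def qhMapIso : HomotopyCategory.quotient A (ComplexShape.up ℤ) ⋙ DerivedCategory.Qh ⋙ F.mapDerivedCategory ≅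
    F.mapHomologicalComplex (ComplexShape.up ℤ) ⋙ HomotopyCategory.quotient B (ComplexShape.up ℤ) ⋙
      DerivedCategory.Qh :=
  Functor.isoWhiskerLeft _ F.mapDerivedCategoryFactorsh ≪≫ (Functor.associator _ _ _).symm ≪≫
    Functor.isoWhiskerRight (F.mapHomotopyCategoryFactors (ComplexShape.up ℤ)) _ ≪≫ Functor.associator _ _ _

end Exact

section Fam

variable {X : TopCat.{u}} {O : TopCat.Sheaf CommRingCat.{u} X} {I : FTors.IdealFam O} (D : FamTors.Datum I)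
  [FTors.HasRgamma I]

include D in
/-- a map of adapted complexes inverted by `Γ` is inverted by `RΓ` -/
theorem isIso_Rgamma_map {J J' : CochainComplex (ModSite.Mod O) ℤ} (g : J ⟶ J') (hJ : FamTors.SA D J)
    (hJ' : FamTors.SA D J') (h : ∀ i, IsIso ((FTors.gamma O I).map (g.f i))) :
    IsIso ((FTors.Rgamma I).map (FamTors.qhm g)) := by
  haveI : ∀ i, IsIso ((FamTors.gm I g).f i) := h
  haveI : IsIso (FamTors.gm I g) := HomologicalComplex.Hom.isIso_of_components _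
  haveI := FamTors.isIso_gα D hJ
  haveI := FamTors.isIso_gα D hJ'
  haveI : IsIso (FamTors.qhm (FamTors.gm I g)) := Functor.map_isIso _ _
  haveI : IsIso (FamTors.gα I J ≫ (FTors.Rgamma I).map (FamTors.qhm g)) := by
    rw [← FamTors.gα_natural]; infer_instance
  exact IsIso.of_isIso_comp_left (FamTors.gα I J) _

end Fam

variable {X : Scheme.{u}} [IsLocallyNoetherian X] (𝓘 : X.IdealSheafData) (hX : (FSch.completionAlong X 𝓘).IsFormal)

theorem bijective_comp_εZp [FTors.HasRgammaZp X 𝓘] {E : DerivedCategory (ModSite.Mod X.sheaf)}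
    (hE : FTors.IsDTorsZp X 𝓘 E) (F : DerivedCategory (ModSite.Mod X.sheaf)) :
    Function.Bijective fun φ : E ⟶ (FTors.RgammaZp X 𝓘).obj F => φ ≫ (FTors.RgammaZpε X 𝓘).app F :=
  FamTors.bijective_comp_ε (FamTors.powDatum 𝓘) hE F

theorem isDTorsZp_pushD {G : DerivedCategory (FSch.ModF (FSch.completionAlong X 𝓘) hX)}
    (hG : FTors.IsDTorsF (FSch.completionAlong X 𝓘) hX G) :
    FTors.IsDTorsZp X 𝓘 ((κC 𝓘 hX).push.mapDerivedCategory.obj G) :=
  fun i => isTorsZp_of_iso 𝓘 (WayOut.mapDerivedHomologyIso _ G i) (isTorsZp_push 𝓘 hX (hG i))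

/-- `RΓ` inverts the direct image of `RΓ' E ⟶ E` -/
theorem isIso_Rgamma_pushD_ε [FTors.HasRgammaT (FSch.completionAlong X 𝓘) hX] [FTors.HasRgammaZp X 𝓘]
    (E : DerivedCategory (FSch.ModF (FSch.completionAlong X 𝓘) hX)) :
    IsIso ((FTors.RgammaZp X 𝓘).map ((κC 𝓘 hX).push.mapDerivedCategory.map
      ((FTors.RgammaTε (FSch.completionAlong X 𝓘) hX).app E))) := by
  have h𝔛 := S3854.result X 𝓘
  obtain ⟨J, -, hSI, hJ, ⟨e⟩⟩ := exists_rep h𝔛 E
  haveI := isIso_gα h𝔛 hSI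
  let H := (κC 𝓘 hX).push.mapDerivedCategory ⋙ FTors.RgammaZp X 𝓘
  suffices h : IsIso (H.map ((FTors.RgammaTε (FSch.completionAlong X 𝓘) hX).app (qh h𝔛 J))) from
    (NatTrans.isIso_app_iff_of_iso (Functor.whiskerRight (FTors.RgammaTε (FSch.completionAlong X 𝓘) hX) H) e).1 h
  haveI : IsIso (H.map (qhm h𝔛 (gι h𝔛 J))) := by
    haveI := isIso_Rgamma_map (FamTors.powDatum 𝓘)
      (((κC 𝓘 hX).push.mapHomologicalComplex (ComplexShape.up ℤ)).map (gι h𝔛 J))
      (sa_push 𝓘 hX (hSI.gc h𝔛)) (sa_push 𝓘 hX hSI) fun i => isIso_gamma_push_ι 𝓘 hX (J.X i)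
    exact (NatIso.isIso_map_iff (Functor.isoWhiskerRight (qhMapIso (κC 𝓘 hX).push) (FTors.RgammaZp X 𝓘))
      (gι h𝔛 J)).2 this
  haveI : IsIso (H.map (gα h𝔛 J)) := inferInstance
  haveI : IsIso (H.map (gα h𝔛 J) ≫ H.map ((FTors.RgammaTε (FSch.completionAlong X 𝓘) hX).app (qh h𝔛 J))) := by
    rw [← H.map_comp, gα_ε]; infer_instance
  exact IsIso.of_isIso_comp_left (H.map (gα h𝔛 J)) _

theorem existsUnique_pushD_iso [FTors.HasRgammaT (FSch.completionAlong X 𝓘) hX] [FTors.HasRgammaZp X 𝓘]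
    {R : DerivedCategory (FSch.ModF (FSch.completionAlong X 𝓘) hX) ⥤ DerivedCategory (ModSite.Mod X.sheaf)}
    (i : R ≅ (κC 𝓘 hX).push.mapDerivedCategory)
    (E : DerivedCategory (FSch.ModF (FSch.completionAlong X 𝓘) hX)) :
    ∃! e : (FTors.RgammaZp X 𝓘).obj (R.obj E) ≅ R.obj ((FTors.RgammaT (FSch.completionAlong X 𝓘) hX).obj E),
      e.hom ≫ R.map ((FTors.RgammaTε (FSch.completionAlong X 𝓘) hX).app E) =
        (FTors.RgammaZpε X 𝓘).app (R.obj E) := by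
  have hT : FTors.IsDTorsZp X 𝓘 (R.obj ((FTors.RgammaT (FSch.completionAlong X 𝓘) hX).obj E)) := fun j =>
    isTorsZp_of_iso 𝓘 ((DerivedCategory.homologyFunctor _ j).mapIso (i.app _))
      (isDTorsZp_pushD 𝓘 hX (isDTors_RgammaT (S3854.result X 𝓘) E) j)
  haveI := FamTors.isIso_ε (FamTors.powDatum 𝓘) hT
  haveI : IsIso ((FTors.RgammaZp X 𝓘).map (R.map ((FTors.RgammaTε (FSch.completionAlong X 𝓘) hX).app E))) :=
    (NatIso.isIso_map_iff (Functor.isoWhiskerRight i (FTors.RgammaZp X 𝓘)) _).2 (isIso_Rgamma_pushD_ε 𝓘 hX E)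
  exact existsUnique_iso_right (FTors.RgammaZpε X 𝓘) _ (bijective_comp_εZp 𝓘 hT _).1

variable [PreservesFiniteLimits (κC 𝓘 hX).pull]

/-- `RΓ` inverts the direct image of the inverse image of `RΓ F ⟶ F` -/
theorem isIso_Rgamma_pushPullD_ε [FTors.HasRgammaZp X 𝓘] (F : DerivedCategory (ModSite.Mod X.sheaf)) :
    IsIso ((FTors.RgammaZp X 𝓘).map ((κC 𝓘 hX).push.mapDerivedCategory.map
      ((SiteCmp.pullD (κC 𝓘 hX)).map ((FTors.RgammaZpε X 𝓘).app F)))) := by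
  obtain ⟨J, -, hSA, hJ, ⟨e⟩⟩ := FamTors.exists_rep (FamTors.powDatum 𝓘) F
  haveI := FamTors.isIso_gα (FamTors.powDatum 𝓘) hSA
  let H := (κC 𝓘 hX).pull.mapDerivedCategory ⋙ (κC 𝓘 hX).push.mapDerivedCategory ⋙ FTors.RgammaZp X 𝓘
  suffices h : IsIso (H.map ((FTors.RgammaZpε X 𝓘).app (FamTors.qh J))) from
    (NatTrans.isIso_app_iff_of_iso (Functor.whiskerRight (FTors.RgammaZpε X 𝓘) H) e).1 h
  haveI : IsIso (H.map (FamTors.qhm (FamTors.gι (FTors.powIdealFam X 𝓘) J))) := by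
    have h1 := isIso_Rgamma_map (FamTors.powDatum 𝓘)
      ((((κC 𝓘 hX).pull ⋙ (κC 𝓘 hX).push).mapHomologicalComplex (ComplexShape.up ℤ)).map
        (FamTors.gι (FTors.powIdealFam X 𝓘) J))
      (sa_pushPull 𝓘 hX (FamTors.sa_gc (FamTors.powDatum 𝓘) hJ)) (sa_pushPull 𝓘 hX hSA)
      fun i => isIso_gamma_pushPull_ι 𝓘 hX (J.X i)
    have h2 := (NatIso.isIso_map_iff (Functor.isoWhiskerRight (qhMapIso (κC 𝓘 hX).push) (FTors.RgammaZp X 𝓘))
      (((κC 𝓘 hX).pull.mapHomologicalComplex (ComplexShape.up ℤ)).map (FamTors.gι (FTors.powIdealFam X 𝓘) J))).2 h1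
    exact (NatIso.isIso_map_iff (Functor.isoWhiskerRight (qhMapIso (κC 𝓘 hX).pull)
      ((κC 𝓘 hX).push.mapDerivedCategory ⋙ FTors.RgammaZp X 𝓘))
      (FamTors.gι (FTors.powIdealFam X 𝓘) J)).2 h2
  haveI : IsIso (H.map (FamTors.gα (FTors.powIdealFam X 𝓘) J)) := inferInstance
  haveI : IsIso (H.map (FamTors.gα (FTors.powIdealFam X 𝓘) J) ≫
      H.map ((FTors.RgammaZpε X 𝓘).app (FamTors.qh J))) := by
    rw [← H.map_comp, FamTors.gα_ε]; infer_instance
  exact IsIso.of_isIso_comp_left (H.map (FamTors.gα (FTors.powIdealFam X 𝓘) J)) _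

theorem existsUnique_pullD_iso [FTors.HasRgammaT (FSch.completionAlong X 𝓘) hX] [FTors.HasRgammaZp X 𝓘]
    (F : DerivedCategory (ModSite.Mod X.sheaf)) :
    ∃! e : (SiteCmp.pullD (κC 𝓘 hX)).obj ((FTors.RgammaZp X 𝓘).obj F) ≅
        (FTors.RgammaT (FSch.completionAlong X 𝓘) hX).obj ((SiteCmp.pullD (κC 𝓘 hX)).obj F),
      e.hom ≫ (FTors.RgammaTε (FSch.completionAlong X 𝓘) hX).app ((SiteCmp.pullD (κC 𝓘 hX)).obj F) =
        (SiteCmp.pullD (κC 𝓘 hX)).map ((FTors.RgammaZpε X 𝓘).app F) := by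
  have h𝔛 := S3854.result X 𝓘
  let εT := FTors.RgammaTε (FSch.completionAlong X 𝓘) hX
  let pD := (κC 𝓘 hX).push.mapDerivedCategory
  let g := (SiteCmp.pullD (κC 𝓘 hX)).map ((FTors.RgammaZpε X 𝓘).app F)
  have hA := isDTorsF_pullD 𝓘 hX (FamTors.isDTors_Rgamma (FamTors.powDatum 𝓘) F)
  haveI := isIso_ε h𝔛 hA
  haveI : IsIso ((FTors.RgammaT (FSch.completionAlong X 𝓘) hX).map g) := by
    let m := (FTors.RgammaT (FSch.completionAlong X 𝓘) hX).map g
    have hsrc := isDTors_RgammaT h𝔛 ((SiteCmp.pullD (κC 𝓘 hX)).obj ((FTors.RgammaZp X 𝓘).obj F))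
    have htgt := isDTors_RgammaT h𝔛 ((SiteCmp.pullD (κC 𝓘 hX)).obj F)
    haveI := isIso_Rgamma_pushD_ε 𝓘 hX ((SiteCmp.pullD (κC 𝓘 hX)).obj ((FTors.RgammaZp X 𝓘).obj F))
    haveI := isIso_Rgamma_pushD_ε 𝓘 hX ((SiteCmp.pullD (κC 𝓘 hX)).obj F)
    haveI := isIso_Rgamma_pushPullD_ε 𝓘 hX F
    haveI : IsIso ((pD ⋙ FTors.RgammaZp X 𝓘).map m) := by
      haveI : IsIso ((pD ⋙ FTors.RgammaZp X 𝓘).map m ≫ (pD ⋙ FTors.RgammaZp X 𝓘).map (εT.app _)) := by
        rw [← Functor.map_comp]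
        erw [εT.naturality g]
        rw [Functor.map_comp]
        exact IsIso.comp_isIso' (isIso_Rgamma_pushD_ε 𝓘 hX _) (isIso_Rgamma_pushPullD_ε 𝓘 hX F)
      exact @IsIso.of_isIso_comp_right _ _ _ _ _ _ _ (isIso_Rgamma_pushD_ε 𝓘 hX _) this
    haveI := FamTors.isIso_ε (FamTors.powDatum 𝓘) (isDTorsZp_pushD 𝓘 hX hsrc)
    haveI := FamTors.isIso_ε (FamTors.powDatum 𝓘) (isDTorsZp_pushD 𝓘 hX htgt)
    haveI : IsIso (pD.map m) := by
      haveI : IsIso ((FTors.RgammaZpε X 𝓘).app _ ≫ pD.map m) := by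
        erw [← (FTors.RgammaZpε X 𝓘).naturality (pD.map m)]
        exact IsIso.comp_isIso' ‹IsIso ((pD ⋙ FTors.RgammaZp X 𝓘).map m)›
          (FamTors.isIso_ε (FamTors.powDatum 𝓘) (isDTorsZp_pushD 𝓘 hX htgt))
      exact IsIso.of_isIso_comp_left ((FTors.RgammaZpε X 𝓘).app _) _
    haveI := isIso_counit_adjD (κC 𝓘 hX).adj _ fun i => isIso_counitC 𝓘 hX (hsrc i)
    haveI := isIso_counit_adjD (κC 𝓘 hX).adj _ fun i => isIso_counitC 𝓘 hX (htgt i)
    haveI : IsIso ((adjD (κC 𝓘 hX).adj).counit.app _ ≫ m) := by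
      erw [← (adjD (κC 𝓘 hX).adj).counit.naturality m]
      exact IsIso.comp_isIso' (Functor.map_isIso (SiteCmp.pullD (κC 𝓘 hX)) (pD.map m))
        (isIso_counit_adjD (κC 𝓘 hX).adj _ fun i => isIso_counitC 𝓘 hX (htgt i))
    exact @IsIso.of_isIso_comp_left _ _ _ _ _ _ _
      (isIso_counit_adjD (κC 𝓘 hX).adj _ fun i => isIso_counitC 𝓘 hX (hsrc i)) this
  exact existsUnique_iso_left εT g (bijective_comp_ε h𝔛 hA _).1

theorem bijective_pullD_map_of_source [FTors.HasRgammaZp X 𝓘] (E F : DerivedCategory (ModSite.Mod X.sheaf))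
    (hE : FTors.IsDTorsZp X 𝓘 E) :
    Function.Bijective (fun φ : E ⟶ F => (SiteCmp.pullD (κC 𝓘 hX)).map φ) := by
  let a := adjD (κC 𝓘 hX).adj
  let Γ' := FTors.RgammaZp X 𝓘
  let ε := FTors.RgammaZpε X 𝓘
  haveI := isIso_unit_adjD (κC 𝓘 hX).adj (Γ'.obj F) fun i =>
    isIso_unitC 𝓘 hX (FamTors.isDTors_Rgamma (FamTors.powDatum 𝓘) F i)
  haveI := FamTors.isIso_map_ε (FamTors.powDatum 𝓘) F
  haveI := isIso_Rgamma_pushPullD_ε 𝓘 hX F
  haveI : IsIso (Γ'.map (a.unit.app F)) := by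
    haveI : IsIso (Γ'.map (ε.app F)) := FamTors.isIso_map_ε (FamTors.powDatum 𝓘) F
    haveI : IsIso (Γ'.map (a.unit.app (Γ'.obj F))) := inferInstance
    haveI : IsIso (Γ'.map ((κC 𝓘 hX).push.mapDerivedCategory.map ((SiteCmp.pullD (κC 𝓘 hX)).map (ε.app F)))) :=
      isIso_Rgamma_pushPullD_ε 𝓘 hX F
    exact isIso_map_of_square Γ' (ε.app F) (a.unit.app F) (a.unit.app (Γ'.obj F))
      ((κC 𝓘 hX).push.mapDerivedCategory.map ((SiteCmp.pullD (κC 𝓘 hX)).map (ε.app F)))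
      (a.unit.naturality (ε.app F))
  have hη : Function.Bijective (fun φ : E ⟶ F => φ ≫ a.unit.app F) := by
    refine (Function.Bijective.of_comp_iff (fun φ : E ⟶ F => φ ≫ a.unit.app F) (bijective_comp_εZp 𝓘 hE F)).1 ?_
    have key : ((fun φ : E ⟶ F => φ ≫ a.unit.app F) ∘ fun φ : E ⟶ Γ'.obj F => φ ≫ ε.app F) =
        (fun ψ => ψ ≫ ε.app _) ∘ fun φ : E ⟶ Γ'.obj F => φ ≫ Γ'.map (a.unit.app F) := by
      funext φ
      simp only [Function.comp_apply, Category.assoc]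
      exact congrArg (φ ≫ ·) (ε.naturality (a.unit.app F)).symm
    exact key ▸ (bijective_comp_εZp 𝓘 hE _).comp (Iso.homToEquiv (asIso (Γ'.map (a.unit.app F)))).bijective
  have key : (fun φ : E ⟶ F => a.homEquiv E _ ((SiteCmp.pullD (κC 𝓘 hX)).map φ)) = fun φ => φ ≫ a.unit.app F :=
    funext fun φ => (a.homEquiv_unit _ _ _).trans (a.unit.naturality φ).symm
  refine (Function.Bijective.of_comp_iff' (a.homEquiv E _).bijective _).1 ?_
  rw [Function.comp_def, key]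
  exact hη

end Groth.Agent.FSchTors
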