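import Groth.Agent.FSchTors.Stalk
import Groth.Agent.FSchCoh.Compl
import Groth.Agent.RSStalk.Pull
import Groth.Agent.S3854
import Groth.Prelude.Def_FTors3

/-!
# The structure map of the completion modulo powers of the ideal, on affine opens and on stalks
-/

universe u

open CategoryTheory CategoryTheory.Limits AlgebraicGeometry TopologicalSpace Opposite

set_option autoImplicit false
set_option backward.isDefEq.respectTransparency false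
set_option backward.isDefEq.respectTransparency.types false
set_option linter.style.haveILetI false

noncomputable section

namespace Groth.Agent.FSchTors

open FSchCoh (OA JA projR)

variable {X : Scheme.{u}} [IsLocallyNoetherian X] (𝓘 : X.IdealSheafData) (hX : (FSch.completionAlong X 𝓘).IsFormal)

/-- the map of underlying spaces -/
abbrev pC : TopCat.of ((FSch.completionAlong X 𝓘).X 0) ⟶ X.toPresheafedSpace.carrier :=
  (FSch.completionToX X 𝓘 0).base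

/-- the map of structure sheaves -/
abbrev cC : X.sheaf ⟶ (TopCat.Sheaf.pushforward CommRingCat.{u} (pC 𝓘)).obj ((FSch.completionAlong X 𝓘).Osh hX) :=
  FSch.schSharp (FSch.completionAlong X 𝓘) hX (FSch.completionToX X 𝓘) (FSch.completionToX_comm X 𝓘)

/-- the preimage of an open -/
abbrev preC (W : X.Opens) : ((FSch.completionAlong X 𝓘).X 0).Opens := FSch.completionToX X 𝓘 0 ⁻¹ᵁ W

/-- functions to functions on the completion -/
def compR (W : X.Opens) : Γ(X, W) →+* OA (FSch.completionAlong X 𝓘) hX (preC 𝓘 W) :=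
  ((cC 𝓘 hX).hom.app (op W)).hom

omit [IsLocallyNoetherian X] in
theorem projR_compR (W : X.Opens) (n : ℕ) (r : Γ(X, W)) :
    projR (FSch.completionAlong X 𝓘) hX (preC 𝓘 W) n (compR 𝓘 hX W r) =
      ((FSch.completionToX X 𝓘 n).appLE W ((FSch.completionAlong X 𝓘).lvU hX n (preC 𝓘 W))
        (FSchCoh.lvU_g (FSch.completionAlong X 𝓘) (FSch.completionToX X 𝓘) (FSchCoh.completion_hg 𝓘) hX W n).le).hom r := by
  exact congr(($(FSch.schSharp_proj (FSch.completionAlong X 𝓘) hX (FSch.completionToX X 𝓘)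
    (FSch.completionToX_comm X 𝓘) n)).hom.app (op W) r)

omit [IsLocallyNoetherian X] in
theorem appLE_eq {Y : Scheme.{u}} (f : Y ⟶ X) (W : X.Opens) {V : Y.Opens} (e : V = f ⁻¹ᵁ W) (r : Γ(X, W))
    (I : Ideal Γ(X, W)) (hI : RingHom.ker (f.app W).hom = I) :
    ((f.appLE W V e.le).hom r = 0 ↔ r ∈ I) ∧
      (Function.Surjective (f.app W).hom → Function.Surjective (f.appLE W V e.le).hom) := by
  subst e hI
  rw [← Scheme.Hom.app_eq_appLE]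
  exact ⟨RingHom.mem_ker.symm, id⟩

theorem mem_JA_iff {W : X.Opens} (hW : IsAffineOpen W) (n : ℕ) (r : Γ(X, W)) :
    compR 𝓘 hX W r ∈ JA (FSch.completionAlong X 𝓘) hX (preC 𝓘 W) ^ (n + 1) ↔ r ∈ 𝓘.ideal ⟨W, hW⟩ ^ (n + 1) := by
  have h𝔛 := S3854.result X 𝓘
  rw [← (FSchCoh.main _ hX h𝔛 (hW.preimage (FSch.completionToX X 𝓘 0))).2.2 n, RingHom.mem_ker, projR_compR]
  exact (appLE_eq (FSch.completionToX X 𝓘 n) W
    (FSchCoh.lvU_g _ _ (FSchCoh.completion_hg 𝓘) hX W n) r _ (FSchCoh.ker_completionToX 𝓘 hW n)).1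

theorem exists_sub_mem_JA {W : X.Opens} (hW : IsAffineOpen W) (n : ℕ)
    (a : OA (FSch.completionAlong X 𝓘) hX (preC 𝓘 W)) :
    ∃ r, a - compR 𝓘 hX W r ∈ JA (FSch.completionAlong X 𝓘) hX (preC 𝓘 W) ^ (n + 1) := by
  have h𝔛 := S3854.result X 𝓘
  have hs : Function.Surjective ((FSch.completionToX X 𝓘 n).app W).hom :=
    (FSch.completionToX X 𝓘 n).app_surjective W hW
  obtain ⟨r, hr⟩ := ((appLE_eq (FSch.completionToX X 𝓘 n) W
    (FSchCoh.lvU_g _ _ (FSchCoh.completion_hg 𝓘) hX W n) 0 _ (FSchCoh.ker_completionToX 𝓘 hW n)).2 hs)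
    (projR _ hX (preC 𝓘 W) n a)
  refine ⟨r, ?_⟩
  rw [← (FSchCoh.main _ hX h𝔛 (hW.preimage (FSch.completionToX X 𝓘 0))).2.2 n, RingHom.mem_ker, map_sub,
    projR_compR, hr, sub_self]

theorem JA_eq_map {W : X.Opens} (hW : IsAffineOpen W) :
    JA (FSch.completionAlong X 𝓘) hX (preC 𝓘 W) = (𝓘.ideal ⟨W, hW⟩).map (compR 𝓘 hX W) := by
  have h𝔛 := S3854.result X 𝓘
  have hU := hW.preimage (FSch.completionToX X 𝓘 0)
  haveI := (FSchCoh.main _ hX h𝔛 hU).1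
  refine le_antisymm (Submodule.le_of_le_smul_of_le_jacobson_bot (IsNoetherian.noetherian _)
    (FSchCoh.JA_le_jacobson h𝔛 hU) fun a ha => ?_) (Ideal.map_le_iff_le_comap.2 fun r hr => ?_)
  · obtain ⟨r, hr⟩ := exists_sub_mem_JA 𝓘 hX hW 1 a
    have hr1 : r ∈ 𝓘.ideal ⟨W, hW⟩ := by
      have : compR 𝓘 hX W r ∈ JA _ hX (preC 𝓘 W) ^ (0 + 1) := by
        rw [pow_one]
        have := sub_mem ha (Ideal.pow_le_self two_ne_zero hr)
        rwa [sub_sub_cancel] at this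
      simpa using (mem_JA_iff 𝓘 hX hW 0 r).1 this
    rw [show a = compR 𝓘 hX W r + (a - compR 𝓘 hX W r) by ring]
    refine Submodule.add_mem_sup (Ideal.mem_map_of_mem _ hr1) ?_
    rw [smul_eq_mul, ← pow_two]
    exact hr
  · have := (mem_JA_iff 𝓘 hX hW 0 r).2 (by simpa using hr)
    simpa using this

theorem JA_pow_eq_map {W : X.Opens} (hW : IsAffineOpen W) (n : ℕ) :
    JA (FSch.completionAlong X 𝓘) hX (preC 𝓘 W) ^ n = (𝓘.ideal ⟨W, hW⟩ ^ n).map (compR 𝓘 hX W) := by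
  rw [JA_eq_map 𝓘 hX hW, Ideal.map_pow]

omit [IsLocallyNoetherian X] in
theorem compR_res {W' W : X.Opens} (h : W' ≤ W) (r : Γ(X, W)) :
    compR 𝓘 hX W' (X.presheaf.map (homOfLE h).op r) =
      RSFin.rsR ((FSch.completionToX X 𝓘 0).preimage_mono h) (compR 𝓘 hX W r) :=
  ConcreteCategory.congr_hom ((cC 𝓘 hX).hom.naturality (homOfLE h).op) r

/-- the stalk map -/
abbrev smC (x : (FSch.completionAlong X 𝓘).X 0) :
    (RSStalk.rg X.sheaf).stalk (pC 𝓘 x) ⟶ (RSStalk.rg ((FSch.completionAlong X 𝓘).Osh hX)).stalk x :=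
  RSStalk.smap (pC 𝓘) (cC 𝓘 hX) x

/-- the ideal in the stalk -/
def stI {W : X.Opens} (hW : IsAffineOpen W) {y : X} (hy : y ∈ W) : Ideal ((RSStalk.rg X.sheaf).stalk y) :=
  (𝓘.ideal ⟨W, hW⟩).map ((RSStalk.rg X.sheaf).germ W y hy).hom

omit [IsLocallyNoetherian X] in
theorem stI_eq {W W' : X.Opens} (hW : IsAffineOpen W) (hW' : IsAffineOpen W') (h : W' ≤ W) {y : X} (hy : y ∈ W') :
    stI 𝓘 hW' hy = stI 𝓘 hW (h hy) := by
  rw [stI, stI, ← Scheme.IdealSheafData.map_ideal 𝓘 (U := ⟨W', hW'⟩) (V := ⟨W, hW⟩) h, Ideal.map_map]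
  congr 1
  ext r
  exact TopCat.Presheaf.germ_res_apply (RSStalk.rg X.sheaf) (homOfLE h) y hy r

omit [IsLocallyNoetherian X] in
theorem exists_affine {x : (FSch.completionAlong X 𝓘).X 0} {W : X.Opens} (hx : pC 𝓘 x ∈ W)
    {V : ((FSch.completionAlong X 𝓘).X 0).Opens} (hxV : x ∈ V) :
    ∃ W', IsAffineOpen W' ∧ W' ≤ W ∧ preC 𝓘 W' ≤ V ∧ pC 𝓘 x ∈ W' := by
  obtain ⟨_, ⟨W₁, hW₁, rfl⟩, hx₁, hle⟩ := Opens.isBasis_iff_nbhd.1
    (FSchCoh.isBasis_g (FSch.completionAlong X 𝓘) (FSch.completionToX X 𝓘)) hxV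
  obtain ⟨W', hW', hx', hle'⟩ := exists_isAffineOpen_mem_and_subset (U := W ⊓ W₁) (x := pC 𝓘 x) ⟨hx, hx₁⟩
  exact ⟨W', hW', fun y hy => (hle' hy).1, fun y hy => hle (hle' (show (pC 𝓘 y) ∈ W' from hy)).2, hx'⟩

theorem stalk_surj {x : (FSch.completionAlong X 𝓘).X 0} {W : X.Opens} (hW : IsAffineOpen W) (hx : pC 𝓘 x ∈ W)
    (n : ℕ) (r' : (RSStalk.rg ((FSch.completionAlong X 𝓘).Osh hX)).stalk x) :
    ∃ r, r' - (smC 𝓘 hX x).hom r ∈ (stI 𝓘 hW hx ^ n).map (smC 𝓘 hX x).hom := by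
  obtain ⟨V, hxV, a, rfl⟩ := TopCat.Presheaf.exists_germ_eq (RSStalk.rg ((FSch.completionAlong X 𝓘).Osh hX)) r'
  obtain ⟨W', hW', hle, hle', hx'⟩ := exists_affine 𝓘 hx hxV
  let gH := ((RSStalk.rg X.sheaf).germ W' (pC 𝓘 x) hx').hom
  let gH' := ((RSStalk.rg ((FSch.completionAlong X 𝓘).Osh hX)).germ (preC 𝓘 W') x hx').hom
  obtain ⟨r, hr⟩ := exists_sub_mem_JA 𝓘 hX hW' n (RSFin.rsR hle' a)
  refine ⟨gH r, ?_⟩
  have h1 : (smC 𝓘 hX x).hom.comp gH = gH'.comp (compR 𝓘 hX W') :=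
    RingHom.ext fun s => RSStalk.germ_smap (pC 𝓘) (cC 𝓘 hX) x W' hx' s
  have h2 := Ideal.mem_map_of_mem gH' (Ideal.pow_le_pow_right n.le_succ hr)
  rw [JA_pow_eq_map 𝓘 hX hW', Ideal.map_map, ← h1, ← Ideal.map_map, map_sub, Ideal.map_pow gH] at h2
  have hgr : gH' (RSFin.rsR hle' a) = (RSStalk.rg ((FSch.completionAlong X 𝓘).Osh hX)).germ V x hxV a :=
    TopCat.Presheaf.germ_res_apply (RSStalk.rg ((FSch.completionAlong X 𝓘).Osh hX)) (homOfLE hle') x hx' a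
  have h1r : gH' (compR 𝓘 hX W' r) = (smC 𝓘 hX x).hom (gH r) := (RingHom.congr_fun h1 r).symm
  rw [hgr, h1r] at h2
  rw [← stI_eq 𝓘 hW hW' hle hx']
  exact h2

theorem stalk_inj {x : (FSch.completionAlong X 𝓘).X 0} {W : X.Opens} (hW : IsAffineOpen W) (hx : pC 𝓘 x ∈ W)
    (n : ℕ) (r : (RSStalk.rg X.sheaf).stalk (pC 𝓘 x))
    (h : (smC 𝓘 hX x).hom r ∈ (stI 𝓘 hW hx ^ n).map (smC 𝓘 hX x).hom) : r ∈ stI 𝓘 hW hx ^ n := by
  classical
  cases n with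
  | zero => simp
  | succ n =>
  obtain ⟨W₀, hxW₀, r₀, rfl⟩ := TopCat.Presheaf.exists_germ_eq (RSStalk.rg X.sheaf) r
  obtain ⟨W₁, hW₁, hle₁, -, hx₁⟩ := exists_affine 𝓘 (W := W ⊓ W₀) ⟨hx, hxW₀⟩ (V := ⊤) (x := x) trivial
  let g1 := ((RSStalk.rg X.sheaf).germ W₁ (pC 𝓘 x) hx₁).hom
  let g1' := ((RSStalk.rg ((FSch.completionAlong X 𝓘).Osh hX)).germ (preC 𝓘 W₁) x hx₁).hom
  have hg : (smC 𝓘 hX x).hom.comp g1 = g1'.comp (compR 𝓘 hX W₁) :=
    RingHom.ext fun s => RSStalk.germ_smap (pC 𝓘) (cC 𝓘 hX) x W₁ hx₁ s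
  rw [← stI_eq 𝓘 hW hW₁ (hle₁.trans inf_le_left) hx₁, stI, ← Ideal.map_pow] at h ⊢
  haveI : IsNoetherianRing (OA (FSch.completionAlong X 𝓘) hX (preC 𝓘 W₁)) :=
    (FSchCoh.main _ hX (S3854.result X 𝓘) (hW₁.preimage _)).1
  rw [Ideal.map_map, hg, ← Ideal.map_map, ← JA_pow_eq_map 𝓘 hX hW₁] at h
  obtain ⟨k, b, hb⟩ := Submodule.fg_iff_exists_fin_generating_family.1
    (IsNoetherian.noetherian (JA (FSch.completionAlong X 𝓘) hX (preC 𝓘 W₁) ^ (n + 1)))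
  rw [← hb, Ideal.map_span, ← Set.range_comp] at h
  obtain ⟨c, hc⟩ := (Submodule.mem_span_range_iff_exists_fun _).1 h
  choose V hxV c' hc' using fun i => TopCat.Presheaf.exists_germ_eq (RSStalk.rg ((FSch.completionAlong X 𝓘).Osh hX)) (c i)
  obtain ⟨V₀, hV₀', hxV₀, hV₀⟩ := RSFin.exists_common (x := x) (U := preC 𝓘 W₁) hx₁ (fun i W _ => W ≤ V i)
    (fun _ _ _ _ h' hP => h'.trans hP) fun i => ⟨preC 𝓘 W₁ ⊓ V i, inf_le_left, ⟨hx₁, hxV i⟩, inf_le_right⟩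
  let lhs : OA (FSch.completionAlong X 𝓘) hX V₀ :=
    ∑ i, RSFin.rsR (hV₀ i) (c' i) * RSFin.rsR hV₀' (b i)
  let rhs : OA (FSch.completionAlong X 𝓘) hX V₀ := RSFin.rsR hV₀'
    (compR 𝓘 hX W₁ (X.presheaf.map (homOfLE (hle₁.trans inf_le_right)).op r₀))
  have heq : (RSStalk.rg ((FSch.completionAlong X 𝓘).Osh hX)).germ V₀ x hxV₀ lhs =
      (RSStalk.rg ((FSch.completionAlong X 𝓘).Osh hX)).germ V₀ x hxV₀ rhs := by
    simp only [lhs, rhs, map_sum, map_mul]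
    refine Eq.trans ?_ ((hc.trans ?_).trans (TopCat.Presheaf.germ_res_apply _ (homOfLE (hV₀' : V₀ ≤ _)) x hxV₀ _).symm)
    · exact Finset.sum_congr rfl fun i _ => congrArg₂ (· * ·)
        ((TopCat.Presheaf.germ_res_apply _ (homOfLE (hV₀ i)) x hxV₀ _).trans (hc' i))
        (TopCat.Presheaf.germ_res_apply _ (homOfLE (hV₀' : V₀ ≤ _)) x hxV₀ _)
    · refine Eq.trans ?_ (RSStalk.germ_smap (pC 𝓘) (cC 𝓘 hX) x W₁ hx₁ _)
      exact congrArg (smC 𝓘 hX x).hom (TopCat.Presheaf.germ_res_apply _ (homOfLE (hle₁.trans inf_le_right)) _ hx₁ r₀).symm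
  obtain ⟨V₁, hxV₁, i₁, i₂, e⟩ := TopCat.Presheaf.germ_eq (RSStalk.rg ((FSch.completionAlong X 𝓘).Osh hX)) x hxV₀ hxV₀ _ _ heq
  obtain ⟨W₂, hW₂, hle₂, hle₂', hx₂⟩ := exists_affine 𝓘 hx₁ hxV₁
  have hv : preC 𝓘 W₂ ≤ V₀ := hle₂'.trans i₁.le
  have e2 : RSFin.rsR hv lhs = RSFin.rsR hv rhs := by
    have := congrArg (RSFin.rsR hle₂') (show RSFin.rsR i₁.le lhs = RSFin.rsR i₂.le rhs from e)
    simpa only [RSFin.rsR_rsR] using this
  have hmem : RSFin.rsR hv lhs ∈ JA (FSch.completionAlong X 𝓘) hX (preC 𝓘 W₂) ^ (n + 1) := by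
    simp only [lhs, map_sum, map_mul, RSFin.rsR_rsR]
    refine sum_mem fun i _ => Ideal.mul_mem_left _ _ ?_
    have hbi : b i ∈ (𝓘.ideal ⟨W₁, hW₁⟩ ^ (n + 1)).map (compR 𝓘 hX W₁) := by
      rw [← JA_pow_eq_map 𝓘 hX hW₁]; exact hb ▸ Submodule.subset_span ⟨i, rfl⟩
    have := Ideal.mem_map_of_mem (RSFin.rsR ((FSch.completionToX X 𝓘 0).preimage_mono hle₂)) hbi
    rw [Ideal.map_map, show (RSFin.rsR ((FSch.completionToX X 𝓘 0).preimage_mono hle₂)).comp (compR 𝓘 hX W₁) =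
      (compR 𝓘 hX W₂).comp (X.presheaf.map (homOfLE hle₂).op).hom from
        RingHom.ext fun s => (compR_res 𝓘 hX hle₂ s).symm, ← Ideal.map_map, Ideal.map_pow] at this
    erw [Scheme.IdealSheafData.map_ideal 𝓘 (U := ⟨W₂, hW₂⟩) (V := ⟨W₁, hW₁⟩) hle₂] at this
    rw [← JA_pow_eq_map 𝓘 hX hW₂] at this
    exact this
  rw [e2] at hmem
  simp only [rhs, RSFin.rsR_rsR, ← compR_res 𝓘 hX hle₂] at hmem
  have hr := Ideal.mem_map_of_mem ((RSStalk.rg X.sheaf).germ W₂ (pC 𝓘 x) hx₂).hom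
    ((mem_JA_iff 𝓘 hX hW₂ n _).1 hmem)
  rw [Ideal.map_pow] at hr
  have hst : stI 𝓘 hW₂ hx₂ = stI 𝓘 hW₁ hx₁ := stI_eq 𝓘 hW₁ hW₂ hle₂ hx₂
  rw [stI, stI] at hst
  rw [hst, ← Ideal.map_pow] at hr
  convert hr using 1
  exact ((TopCat.Presheaf.germ_res_apply (RSStalk.rg X.sheaf) (homOfLE hle₂) _ hx₂ _).trans
    (TopCat.Presheaf.germ_res_apply (RSStalk.rg X.sheaf) (homOfLE (hle₁.trans inf_le_right)) _ hx₁ r₀)).symm

end Groth.Agent.FSchTors
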