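import Groth.Agent.RGammaI.Acyclic
import Mathlib.Algebra.Module.Torsion.Basic
import Mathlib.RingTheory.Flat.Basic
import Mathlib.LinearAlgebra.TensorProduct.Pi
import Mathlib.Algebra.Category.ModuleCat.ChangeOfRings

/-!
# Torsion in a flat base change, for an ideal of a smaller ring
-/

universe u

open CategoryTheory CategoryTheory.Limits TensorProduct

set_option autoImplicit false
set_option backward.isDefEq.respectTransparency false
set_option backward.isDefEq.respectTransparency.types false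
set_option linter.style.haveILetI false

noncomputable section

namespace Groth.Agent.FSchTors

section Tensor

variable {A R R' : Type u} [CommRing A] [CommRing R] [CommRing R'] [Algebra A R] [Algebra R R'] [Module.Flat R R']
  {N : Type u} [AddCommGroup N] [Module R N]

/-- the elements killed by a finitely generated ideal in a flat base change come from such elements -/
theorem mem_range_lTensor_torsionBySet (K : Ideal A) (hK : K.FG) (z : R' ⊗[R] N)
    (hz : ∀ a ∈ K, algebraMap A R a • z = 0) :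
    z ∈ LinearMap.range (LinearMap.lTensor R' (Submodule.torsionBySet R N (algebraMap A R '' (K : Set A))).subtype) := by
  classical
  obtain ⟨k, b, hb⟩ := Submodule.fg_iff_exists_fin_generating_family.1 hK
  let φ : N →ₗ[R] (Fin k → N) := LinearMap.pi fun i => algebraMap A R (b i) • LinearMap.id
  have hex : Function.Exact (Submodule.torsionBySet R N (algebraMap A R '' (K : Set A))).subtype φ := by
    intro m
    constructor
    · intro hm
      have h0 : ∀ i, algebraMap A R (b i) • m = 0 := fun i => congrFun hm i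
      refine ⟨⟨m, (Submodule.mem_torsionBySet_iff _ _).2 ?_⟩, rfl⟩
      rintro ⟨_, a, ha, rfl⟩
      obtain ⟨c, rfl⟩ := (Submodule.mem_span_range_iff_exists_fun _).1 (hb.ge ha)
      simp only [map_sum, Finset.sum_smul, smul_eq_mul, map_mul, mul_smul, h0, smul_zero, Finset.sum_const_zero]
    · rintro ⟨⟨m, hm⟩, rfl⟩
      exact funext fun i => (Submodule.mem_torsionBySet_iff _ _).1 hm
        ⟨_, Set.mem_image_of_mem _ (hb ▸ Submodule.subset_span ⟨i, rfl⟩)⟩
  refine (Module.Flat.lTensor_exact R' hex z).1 ?_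
  apply (TensorProduct.piRight R R R' (fun _ : Fin k => N)).injective
  rw [map_zero]
  funext i
  have key : ∀ w : R' ⊗[R] N, TensorProduct.piRight R R R' (fun _ : Fin k => N) (LinearMap.lTensor R' φ w) i =
      algebraMap A R (b i) • w := fun w => by
    induction w using TensorProduct.induction_on with
    | zero => simp
    | tmul r m => simp [φ, TensorProduct.smul_tmul']
    | add x y hx hy => simp only [map_add, Pi.add_apply, hx, hy, smul_add]
  rw [key]
  exact hz _ (hb ▸ Submodule.subset_span ⟨i, rfl⟩)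

end Tensor

variable {A R R' : Type u} [CommRing A] [CommRing R] [CommRing R'] (g : A →+* R) (φ : R →+* R')

/-- a module over `R`, extended to `R'` and seen over `A` -/
abbrev ext3 : ModuleCat.{u} R ⥤ ModuleCat.{u} A :=
  ModuleCat.extendScalars.{u, u, u} φ ⋙ ModuleCat.restrictScalars φ ⋙ ModuleCat.restrictScalars g

/-- torsion of a flat extension comes from torsion -/
theorem ext3_torsion_range (hφ : φ.Flat) (K : Ideal A) (hK : K.FG) {M M₀ : ModuleCat.{u} R} (ι : M₀ ⟶ M)
    (hι : ∀ m : M, (∃ n : ℕ, ∀ a ∈ K ^ n, g a • m = 0) → ∃ m₀, ι m₀ = m)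
    (z : (ext3 g φ).obj M) (hz : z ∈ DRing.torsionSub K ((ext3 g φ).obj M)) :
    ∃ z₀, (ext3 g φ).map ι z₀ = z := by
  letI := g.toAlgebra
  letI := φ.toAlgebra
  haveI : Module.Flat R R' := hφ
  obtain ⟨n, hn⟩ := hz
  have hz' : ∀ a ∈ K ^ n, algebraMap A R a • (show R' ⊗[R] M from z) = 0 := fun a ha => by
    refine Eq.trans ?_ (hn a ha)
    exact algebraMap_smul R' (g a) (show R' ⊗[R] M from z) |>.symm
  obtain ⟨w, hw⟩ := mem_range_lTensor_torsionBySet (K ^ n) (Submodule.FG.pow hK n) _ hz'
  rw [← hw]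
  clear hw hz' hn
  induction w using TensorProduct.induction_on with
  | zero => exact ⟨0, by simp⟩
  | tmul r m =>
    obtain ⟨m₀, hm₀⟩ := hι m.1 ⟨n, fun a ha =>
      (Submodule.mem_torsionBySet_iff _ _).1 m.2 ⟨_, Set.mem_image_of_mem _ ha⟩⟩
    refine ⟨(show R' ⊗[R] M₀ from r ⊗ₜ[R] m₀), ?_⟩
    change r ⊗ₜ[R] (ι m₀ : M) = r ⊗ₜ[R] (m.1 : M)
    rw [hm₀]
  | add x y hx hy =>
    obtain ⟨x₀, hx⟩ := hx
    obtain ⟨y₀, hy⟩ := hy
    exact ⟨x₀ + y₀, by rw [map_add, hx, hy, map_add]⟩

/-- divisibility of the torsion passes to flat extensions -/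
theorem divModTors_ext3 (hφ : φ.Flat) (K : Ideal A) (hK : K.FG) (a : A) (M : ModuleCat.{u} R)
    (h : LocH.DivModTors a ↥(DRing.torsionSub K ((ModuleCat.restrictScalars g).obj M))) :
    LocH.DivModTors a ↥(DRing.torsionSub K ((ext3 g φ).obj M)) := by
  letI := g.toAlgebra
  letI := φ.toAlgebra
  haveI : Module.Flat R R' := hφ
  intro p z
  obtain ⟨n, hn⟩ := z.2
  have hz' : ∀ c ∈ K ^ n, algebraMap A R c • (show R' ⊗[R] M from z.1) = 0 := fun c hc => by
    refine Eq.trans ?_ (hn c hc)
    exact algebraMap_smul R' (g c) (show R' ⊗[R] M from z.1) |>.symm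
  obtain ⟨w, hw⟩ := mem_range_lTensor_torsionBySet (K ^ n) (Submodule.FG.pow hK n) _ hz'
  suffices ∃ (v : (ext3 g φ).obj M), v ∈ DRing.torsionSub K ((ext3 g φ).obj M) ∧ ∃ m : ℕ,
      a ^ m • (a ^ p • v - z.1) = 0 by
    obtain ⟨v, hv, m, hm⟩ := this
    exact ⟨⟨v, hv⟩, m, Subtype.ext hm⟩
  rw [show z.1 = (show (ext3 g φ).obj M from _) from hw.symm]
  clear hw hz' hn
  induction w using TensorProduct.induction_on with
  | zero => exact ⟨0, zero_mem _, 0, by rw [smul_zero, map_zero]; exact (congrArg _ (sub_zero _)).trans (smul_zero _)⟩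
  | tmul r m =>
    obtain ⟨v, q, hq⟩ := h p ⟨m.1, n, fun c hc =>
      (Submodule.mem_torsionBySet_iff _ _).1 m.2 ⟨_, Set.mem_image_of_mem _ hc⟩⟩
    obtain ⟨q', hq'⟩ := v.2
    have hsm : ∀ (c : A) (y : M), c • (show (ext3 g φ).obj M from r ⊗ₜ[R] y) =
        (show (ext3 g φ).obj M from r ⊗ₜ[R] (g c • y)) := fun c y => by
      change φ (g c) • (r ⊗ₜ[R] y) = r ⊗ₜ[R] (g c • y)
      rw [← TensorProduct.smul_tmul, TensorProduct.smul_tmul', Algebra.smul_def]
      rfl
    refine ⟨r ⊗ₜ[R] (show M from v.1), ⟨q', fun c hc => ?_⟩, q, ?_⟩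
    · refine (hsm c _).trans ?_
      rw [show g c • (show M from v.1) = 0 from hq' c hc]
      exact TensorProduct.tmul_zero _ _
    · have hq2 : g (a ^ q) • (g (a ^ p) • (show M from v.1) - m.1) = 0 := congrArg Subtype.val hq
      rw [hsm]
      refine (congrArg (fun w : (ext3 g φ).obj M => a ^ q • w) (TensorProduct.tmul_sub r (g (a ^ p) • (show M from v.1)) m.1).symm).trans ?_
      refine (hsm _ _).trans ?_
      rw [hq2]
      exact TensorProduct.tmul_zero _ _
  | add x y hx hy =>
    obtain ⟨v, hv, q, hq⟩ := hx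
    obtain ⟨v', hv', q', hq'⟩ := hy
    refine ⟨v + v', add_mem hv hv', q + q', ?_⟩
    rw [map_add, smul_add, add_sub_add_comm, smul_add, pow_add, mul_comm, mul_smul, hq, smul_zero, zero_add,
      mul_comm, mul_smul, hq', smul_zero]

end Groth.Agent.FSchTors
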