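import Groth.Agent.FSchTors.ComplDerived
import Groth.Agent.FSchTors.FlatTors
import Groth.Agent.FamTors.Derived
import Groth.Agent.FamTors.SchemeDatum
import Groth.Agent.RGammaI.Change

/-!
# Torsion subsheaves of direct images from a completion, and their stalks
-/

universe u

open CategoryTheory CategoryTheory.Limits AlgebraicGeometry TopologicalSpace Opposite
open Groth.Agent.KFlat (PStalk pgerm pgerm_res pgerm_smul exists_pgerm)
open Groth.Agent.RSFin (sc rs rsR)

set_option autoImplicit false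
set_option backward.isDefEq.respectTransparency false
set_option backward.isDefEq.respectTransparency.types false
set_option linter.style.haveILetI false

noncomputable section

namespace Groth.Agent.FSchTors

theorem divModTors_of_iso {A : Type u} [CommRing A] {K : Ideal A} {a : A} {P P₁ : ModuleCat.{u} A} (e : P ≅ P₁)
    (h : LocH.DivModTors a ↥(DRing.torsionSub K P₁)) : LocH.DivModTors a ↥(DRing.torsionSub K P) :=
  RGammaI.divModTors_of_decomp e.hom e.inv (0 : P ⟶ P₁) 0 (by simp) h h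

section General

variable {X : TopCat.{u}} {O : TopCat.Sheaf CommRingCat.{u} X} {I : FTors.IdealFam O}

/-- `Γ` inverts a monomorphism from a torsion module whose image holds all torsion sections, locally -/
theorem isIso_gamma_map {P Q : ModSite.Mod O} (f : P ⟶ Q) [Mono f] (hP : FTors.IsTors I P)
    (h : ∀ (V : Opens X) (t : ModSite.sect Q V), FTors.IsTorsSect I Q t → ∀ y ∈ V,
      ∃ (W : Opens X) (hW : W ≤ V) (s : ModSite.sect P W), y ∈ W ∧ RSFin.ap f W s = rs Q hW t) :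
    IsIso ((FTors.gamma O I).map f) := by
  haveI : Mono ((FTors.gamma O I).map f) := RSFin.mono_of_injective _ fun V a b e =>
    Subtype.ext (RSFin.injective_of_mono f V (congrArg Subtype.val e))
  haveI : Epi ((FTors.gamma O I).map f) := RSFin.epi_of_locally _ fun V t y hy => by
    obtain ⟨W, hW, s, hyW, hs⟩ := h V (t : FTors.torsSub I Q V).1 (t : FTors.torsSub I Q V).2 y hy
    exact ⟨W, hW, ⟨s, hP W s⟩, hyW, Subtype.ext hs⟩
  exact isIso_of_mono_of_epi _

theorem isTors_gamma (N : ModSite.Mod O) : FTors.IsTors I ((FTors.gamma O I).obj N) := by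
  intro V t y hy
  obtain ⟨W, g, ⟨n, hn⟩, hyW⟩ := (t : FTors.torsSub I N V).2 y hy
  exact ⟨W, g, ⟨n, fun W' g' a ha => Subtype.ext (hn g' a ha)⟩, hyW⟩

end General

theorem mono_map_of_natIso {C D : Type*} [Category C] [Category D] {F G : C ⥤ D} (e : F ≅ G) {A B : C} (φ : A ⟶ B)
    [Mono (F.map φ)] : Mono (G.map φ) := by
  rw [← NatIso.naturality_1 e φ]
  infer_instance

section Space

variable {X Y : TopCat.{u}} {O_X : TopCat.Sheaf CommRingCat.{u} X} {O_Y : TopCat.Sheaf CommRingCat.{u} Y} (f : X ⟶ Y)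
  (c : O_Y ⟶ ((Opens.map f).sheafPushforwardContinuous CommRingCat.{u} (Opens.grothendieckTopology Y)
    (Opens.grothendieckTopology X)).obj O_X) (x : X)

open RSStalk

theorem pushCmp_natural {M M' : ModSite.Mod O_X} (φ : M ⟶ M') :
    (st O_Y (f x)).map ((rmor f c).push.map φ) ≫ pushCmp f c x M' =
      pushCmp f c x M ≫ (ModuleCat.restrictScalars (smap f c x).hom).map ((st O_X x).map φ) := by
  ext z
  obtain ⟨U, hU, s, rfl⟩ := exists_pgerm ((toP O_Y).obj ((rmor f c).push.obj M)) (f x) z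
  change pushCmp f c x M' (pstMap ((toP O_Y).map ((rmor f c).push.map φ)) (f x) (pgerm _ (f x) U hU s)) =
    pstMap ((toP O_X).map φ) x (pushCmp f c x M (pgerm _ (f x) U hU s))
  rw [pstMap_germ, pushCmp_germ]
  erw [pushCmp_germ, pstMap_germ]
  rfl

/-- the stalk of a direct image at a point of the image -/
def pushStIso (hf : Topology.IsInducing f) :
    (rmor f c).push ⋙ st O_Y (f x) ≅ st O_X x ⋙ ModuleCat.restrictScalars (smap f c x).hom :=
  NatIso.ofComponents (fun M => @asIso _ _ _ _ (pushCmp f c x M)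
    ((ConcreteCategory.isIso_iff_bijective _).2 (pushCmp_bijective f c x hf M))) fun φ => pushCmp_natural f c x φ

/-- extension of scalars to the stalk is flat when inverse images are exact -/
theorem flat_smap [PreservesFiniteLimits (rmor f c).pull] : (smap f c x).hom.Flat := by
  letI := (smap f c x).hom.toAlgebra
  show Module.Flat ((rg O_Y).stalk (f x)) ((rg O_X).stalk x)
  rw [Module.Flat.iff_lTensor_preserves_injective_linearMap]
  intro M N _ _ _ _ g hg
  let G : ModuleCat.of ((rg O_Y).stalk (f x)) M ⟶ ModuleCat.of _ N := ModuleCat.ofHom g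
  haveI : Mono G := (ModuleCat.mono_iff_injective _).2 hg
  haveI : (sky (O := O_Y) (f x)).PreservesMonomorphisms := preservesMonomorphisms_of_preservesLimitsOfShape _
  haveI : (rmor f c).pull.PreservesMonomorphisms := preservesMonomorphisms_of_preservesLimitsOfShape _
  haveI : (st O_X x).PreservesMonomorphisms := preservesMonomorphisms_of_preservesLimitsOfShape _
  haveI : Mono (((rmor f c).pull ⋙ st O_X x).map ((sky (O := O_Y) (f x)).map G)) :=
    (st O_X x).map_mono ((rmor f c).pull.map ((sky (O := O_Y) (f x)).map G))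
  haveI : Mono ((st O_Y (f x) ⋙ ModuleCat.extendScalars.{u, u, u} (smap f c x).hom).map
      ((sky (O := O_Y) (f x)).map G)) :=
    mono_map_of_natIso (pullStalkIso f c x) ((sky (O := O_Y) (f x)).map G)
  haveI : Mono ((ModuleCat.extendScalars.{u, u, u} (smap f c x).hom).map G) := by
    have e : G = (skyStalkIso (f x) _).inv ≫ (st O_Y (f x)).map ((sky (O := O_Y) (f x)).map G) ≫
        (skyStalkIso (f x) _).hom := by
      rw [skyStalkIso_natural, Iso.inv_hom_id_assoc]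
    rw [e, Functor.map_comp, Functor.map_comp]
    haveI : Mono ((ModuleCat.extendScalars.{u, u, u} (smap f c x).hom).map
        ((st O_Y (f x)).map ((sky (O := O_Y) (f x)).map G))) := ‹_›
    infer_instance
  exact (ModuleCat.mono_iff_injective _).1 ‹Mono ((ModuleCat.extendScalars.{u, u, u} (smap f c x).hom).map G)›

end Space

variable {X : Scheme.{u}} [IsLocallyNoetherian X] (𝓘 : X.IdealSheafData) (hX : (FSch.completionAlong X 𝓘).IsFormal)

/-- the inclusion of the torsion, pushed forward, becomes invertible after taking torsion -/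
theorem isIso_gamma_push_ι (M : FSch.ModF (FSch.completionAlong X 𝓘) hX) :
    IsIso ((FTors.gammaZp X 𝓘).map
      ((κC 𝓘 hX).push.map ((FTors.gammaTι (FSch.completionAlong X 𝓘) hX).app M))) := by
  haveI : Mono ((FTors.gammaTι (FSch.completionAlong X 𝓘) hX).app M) :=
    RSFin.mono_of_injective _ fun V a b e => Subtype.ext e
  refine isIso_gamma_map _ (isTorsZp_push 𝓘 hX (isTors_gamma M)) fun V t ht y hy => ?_
  exact ⟨V, le_rfl, (show ModSite.sect ((κC 𝓘 hX).push.obj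
      ((FTors.gammaT (FSch.completionAlong X 𝓘) hX).obj M)) V from
      (⟨t, isTorsSect_of_push 𝓘 hX M ht⟩ : FTors.torsSub _ M (preC 𝓘 V))), hy,
    (RSFin.rs_self _ le_rfl t).symm⟩

omit [IsLocallyNoetherian X] in
theorem preC_germ {W : X.Opens} {x : (FSch.completionAlong X 𝓘).X 0} (hx : pC 𝓘 x ∈ W) :
    (smC 𝓘 hX x).hom.comp ((RSStalk.rg X.sheaf).germ W (pC 𝓘 x) hx).hom =
      ((RSStalk.rg ((FSch.completionAlong X 𝓘).Osh hX)).germ (preC 𝓘 W) x hx).hom.comp (compR 𝓘 hX W) :=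
  RingHom.ext fun s => RSStalk.germ_smap (pC 𝓘) (cC 𝓘 hX) x W hx s

/-- stalks of direct images, over the functions on an affine open -/
def stAPushIso {W : X.Opens} {x : (FSch.completionAlong X 𝓘).X 0} (hx : pC 𝓘 x ∈ W) :
    (κC 𝓘 hX).push ⋙ stA X.sheaf hx ≅
      stA ((FSch.completionAlong X 𝓘).Osh hX) (show x ∈ preC 𝓘 W from hx) ⋙
        ModuleCat.restrictScalars (compR 𝓘 hX W) :=
  Functor.isoWhiskerRight (pushStIso (pC 𝓘) (cC 𝓘 hX) x (isClosedEmbedding_pC 𝓘).isInducing)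
      (ModuleCat.restrictScalars ((RSStalk.rg X.sheaf).germ W (pC 𝓘 x) hx).hom) ≪≫
    Functor.isoWhiskerLeft (RSStalk.st ((FSch.completionAlong X 𝓘).Osh hX) x)
      ((ModuleCat.restrictScalarsComp' ((RSStalk.rg X.sheaf).germ W (pC 𝓘 x) hx).hom (smC 𝓘 hX x).hom
          ((((RSStalk.rg ((FSch.completionAlong X 𝓘).Osh hX)).germ (preC 𝓘 W) x hx).hom).comp (compR 𝓘 hX W))
          (preC_germ 𝓘 hX hx).symm).symm ≪≫
        ModuleCat.restrictScalarsComp' (compR 𝓘 hX W)
          (((RSStalk.rg ((FSch.completionAlong X 𝓘).Osh hX)).germ (preC 𝓘 W) x hx).hom) _ rfl)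

/-- direct images of complexes of injectives and of their torsion subcomplexes are adapted -/
theorem sa_push {M : CochainComplex (FSch.ModF (FSch.completionAlong X 𝓘) hX) ℤ}
    (hM : SI (S3854.result X 𝓘) M) :
    FamTors.SA (FamTors.powDatum 𝓘) (((κC 𝓘 hX).push.mapHomologicalComplex (ComplexShape.up ℤ)).obj M) := by
  intro W hW y hy s _ i t _ a _
  by_cases hyZ : y ∈ Set.range (pC 𝓘)
  · obtain ⟨x, rfl⟩ := hyZ
    refine divModTors_of_iso ((stAPushIso 𝓘 hX hy).app (M.X i)) ?_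
    have hU : IsAffineOpen (preC 𝓘 W) := (show IsAffineOpen W from hW).preimage (FSch.completionToX X 𝓘 0)
    haveI : IsNoetherianRing (FSchCoh.OA (FSch.completionAlong X 𝓘) hX (preC 𝓘 W)) :=
      (FSchCoh.main _ hX (S3854.result X 𝓘) hU).1
    have hI := hM (x := x) hU hy i
    let G := ((stC (S3854.result X 𝓘) (U := preC 𝓘 W) (x := x) hy).obj M).X i
    letI : Algebra Γ(X, W) (FSchCoh.OA (FSch.completionAlong X 𝓘) hX (preC 𝓘 W)) := (compR 𝓘 hX W).toAlgebra
    letI : Module Γ(X, W) G := Module.compHom G (compR 𝓘 hX W)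
    haveI : IsScalarTower Γ(X, W) (FSchCoh.OA (FSch.completionAlong X 𝓘) hX (preC 𝓘 W)) G :=
      IsScalarTower.of_algebraMap_smul fun _ _ => rfl
    haveI : Module.Injective (FSchCoh.OA (FSch.completionAlong X 𝓘) hX (preC 𝓘 W)) G :=
      Module.injective_module_of_injective_object _ _ (inj := hI)
    exact LocH.divModTors_torsionSub (R' := FSchCoh.OA (FSch.completionAlong X 𝓘) hX (preC 𝓘 W))
      (R := Γ(X, W)) (G := G) _ a
  · intro n z
    have hsub := ModuleCat.subsingleton_of_isZero ((ModuleCat.restrictScalars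
      ((RSStalk.rg X.sheaf).germ W y hy).hom).map_isZero
      (isZero_st_push_of_notMem (pC 𝓘) (cC 𝓘 hX) (isClosedEmbedding_pC 𝓘).isClosed_range hyZ (M.X i)))
    exact ⟨z, 0, Subtype.ext (hsub.elim _ _)⟩

variable [PreservesFiniteLimits (κC 𝓘 hX).pull]

omit [IsLocallyNoetherian X] in
theorem flat_smC (x : (FSch.completionAlong X 𝓘).X 0) : (smC 𝓘 hX x).hom.Flat :=
  haveI : PreservesFiniteLimits (RSStalk.rmor (pC 𝓘) (cC 𝓘 hX)).pull := ‹PreservesFiniteLimits (κC 𝓘 hX).pull›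
  flat_smap (pC 𝓘) (cC 𝓘 hX) x

/-- stalks of direct images of inverse images, over the functions on an affine open -/
def stAPushPullIso {W : X.Opens} {x : (FSch.completionAlong X 𝓘).X 0} (hx : pC 𝓘 x ∈ W) :
    ((κC 𝓘 hX).pull ⋙ (κC 𝓘 hX).push) ⋙ stA X.sheaf hx ≅
      RSStalk.st X.sheaf (pC 𝓘 x) ⋙
        ext3 ((RSStalk.rg X.sheaf).germ W (pC 𝓘 x) hx).hom (smC 𝓘 hX x).hom :=
  Functor.isoWhiskerLeft (κC 𝓘 hX).pull
      (Functor.isoWhiskerRight (pushStIso (pC 𝓘) (cC 𝓘 hX) x (isClosedEmbedding_pC 𝓘).isInducing)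
        (ModuleCat.restrictScalars ((RSStalk.rg X.sheaf).germ W (pC 𝓘 x) hx).hom)) ≪≫
    Functor.isoWhiskerRight (RSStalk.pullStalkIso (pC 𝓘) (cC 𝓘 hX) x)
      (ModuleCat.restrictScalars (smC 𝓘 hX x).hom ⋙
        ModuleCat.restrictScalars ((RSStalk.rg X.sheaf).germ W (pC 𝓘 x) hx).hom)

/-- direct images of inverse images of adapted complexes are adapted -/
theorem sa_pushPull {J : CochainComplex (ModSite.Mod X.sheaf) ℤ} (hJ : FamTors.SA (FamTors.powDatum 𝓘) J) :
    FamTors.SA (FamTors.powDatum 𝓘)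
      ((((κC 𝓘 hX).pull ⋙ (κC 𝓘 hX).push).mapHomologicalComplex (ComplexShape.up ℤ)).obj J) := by
  intro W hW y hy s hs i t ht a ha
  by_cases hyZ : y ∈ Set.range (pC 𝓘)
  · obtain ⟨x, rfl⟩ := hyZ
    refine divModTors_of_iso ((stAPushPullIso 𝓘 hX hy).app (J.X i)) ?_
    exact divModTors_ext3 _ _ (flat_smC 𝓘 hX x) _ ⟨t, rfl⟩ a ((RSStalk.st X.sheaf (pC 𝓘 x)).obj (J.X i))
      (hJ hW hy s hs i t ht a ha)
  · intro n z
    have hsub := ModuleCat.subsingleton_of_isZero ((ModuleCat.restrictScalars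
      ((RSStalk.rg X.sheaf).germ W y hy).hom).map_isZero
      (isZero_st_push_of_notMem (pC 𝓘) (cC 𝓘 hX) (isClosedEmbedding_pC 𝓘).isClosed_range hyZ
        ((κC 𝓘 hX).pull.obj (J.X i))))
    exact ⟨z, 0, Subtype.ext (hsub.elim _ _)⟩

/-- the inclusion of the torsion, pulled back and pushed forward, becomes invertible after taking torsion -/
theorem isIso_gamma_pushPull_ι (N : ModSite.Mod X.sheaf) :
    IsIso ((FTors.gammaZp X 𝓘).map
      ((κC 𝓘 hX).push.map ((κC 𝓘 hX).pull.map ((FTors.gammaZpι X 𝓘).app N)))) := by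
  haveI : Mono ((FTors.gammaZpι X 𝓘).app N) := RSFin.mono_of_injective _ fun V a b e => Subtype.ext e
  haveI : Mono ((κC 𝓘 hX).push.map ((κC 𝓘 hX).pull.map ((FTors.gammaZpι X 𝓘).app N))) := inferInstance
  refine isIso_gamma_map _ (isTorsZp_push 𝓘 hX (isTorsF_pull 𝓘 hX (isTors_gamma N))) fun V t ht y hy => ?_
  by_cases hyZ : y ∈ Set.range (pC 𝓘)
  · obtain ⟨x, rfl⟩ := hyZ
    obtain ⟨U, hU, hxU, hle⟩ := exists_isAffineOpen_mem_and_subset (U := V) (x := pC 𝓘 x) hy
    have ht' : FTors.IsTorsSect (FTors.powIdealFam X 𝓘) ((κC 𝓘 hX).push.obj ((κC 𝓘 hX).pull.obj N))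
        (FTors.res ((κC 𝓘 hX).push.obj ((κC 𝓘 hX).pull.obj N)) (homOfLE hle) t) :=
      FTors.IsTorsSect.res (I := FTors.powIdealFam X 𝓘) (M := (κC 𝓘 hX).push.obj ((κC 𝓘 hX).pull.obj N))
        (homOfLE hle) (s := t) ht
    obtain ⟨W, hW, n, hxW, hk⟩ := (FamTors.isTorsSect_iff _).1 ht' (pC 𝓘 x) hxU
    have hz : gst ((κC 𝓘 hX).push.obj ((κC 𝓘 hX).pull.obj N)) hxU hxU (rs _ hle t) ∈ DRing.torsionSub
        ((FamTors.powDatum 𝓘).J U hU) ((stA X.sheaf hxU).obj _) :=
      ((FamTors.powDatum 𝓘).germ_iff hU hxU _ hxU le_rfl _).2 ⟨W, hW, n, hxW, hk⟩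
    let e := stAPushPullIso 𝓘 hX hxU
    have hK : ((FamTors.powDatum 𝓘).J U hU).FG := (FamTors.isNoetherianRing_sc hU).noetherian _
    obtain ⟨z₀, hz₀⟩ := ext3_torsion_range ((RSStalk.rg X.sheaf).germ U (pC 𝓘 x) hxU).hom (smC 𝓘 hX x).hom
      (flat_smC 𝓘 hX x) _ hK ((RSStalk.st X.sheaf (pC 𝓘 x)).map ((FTors.gammaZpι X 𝓘).app N))
      (fun m hm => by
        obtain ⟨k, hk⟩ := hm
        exact FamTors.stA_gammaι_surjective (FamTors.powDatum 𝓘) hU hxU N m ⟨k, hk⟩)
      _ (DRing.map_mem_torsionSub _ (e.hom.app N).hom hz)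
    have hz1 : (stA X.sheaf hxU).map ((κC 𝓘 hX).push.map ((κC 𝓘 hX).pull.map ((FTors.gammaZpι X 𝓘).app N)))
        (e.inv.app _ z₀) = gst _ hxU hxU (rs _ hle t) := by
      have hn := congr($(e.inv.naturality ((FTors.gammaZpι X 𝓘).app N)) z₀)
      refine hn.symm.trans ((congrArg (e.inv.app N) hz₀).trans ?_)
      exact congr($(e.hom_inv_id_app N) (gst _ hxU hxU (rs _ hle t)))
    obtain ⟨W₁, hW₁, hxW₁, s, hs⟩ := exists_gst _ hxU (e.inv.app _ z₀)
    rw [← hs] at hz1
    replace hz1 := (gst_map ((κC 𝓘 hX).push.map ((κC 𝓘 hX).pull.map ((FTors.gammaZpι X 𝓘).app N))) hxU hxW₁ s).symm.trans hz1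
    have h1 : gst ((κC 𝓘 hX).push.obj ((κC 𝓘 hX).pull.obj N)) hxU hxW₁ (RSFin.ap ((κC 𝓘 hX).push.map ((κC 𝓘 hX).pull.map ((FTors.gammaZpι X 𝓘).app N))) W₁ s - rs _ (le_trans hW₁ hle) t) = 0 := by
      rw [map_sub, sub_eq_zero]
      exact hz1.trans ((gst_rs _ hxU hle hxU t).trans (gst_rs _ hxU (le_trans hW₁ hle) hxW₁ t).symm)
    obtain ⟨W₂, hW₂, hxW₂, h2⟩ := gst_eq_zero _ hxU hxW₁ h1
    refine ⟨W₂, le_trans hW₂ (le_trans hW₁ hle), rs _ hW₂ s, hxW₂, ?_⟩
    rw [map_sub, sub_eq_zero] at h2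
    exact (RSFin.ap_rs _ hW₂ s).trans (h2.trans (RSFin.rs_rs _ _ _ _))
  · refine ⟨V ⊓ ⟨(Set.range (pC 𝓘))ᶜ, (isClosedEmbedding_pC 𝓘).isClosed_range.isOpen_compl⟩, inf_le_left, 0,
      ⟨hy, hyZ⟩, ?_⟩
    rw [map_zero]
    exact (RSFin.eq_zero_of_locally ((κC 𝓘 hX).pull.obj N) _ fun z hz => absurd ⟨z, rfl⟩
      (hz : pC 𝓘 z ∈ V ⊓ ⟨(Set.range (pC 𝓘))ᶜ, (isClosedEmbedding_pC 𝓘).isClosed_range.isOpen_compl⟩).2).symm

end Groth.Agent.FSchTors
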