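import Groth.Agent.RSStalk.Fib
import Groth.Agent.RSFin.Sect
import Groth.Agent.RGammaI.Torsion
import Mathlib.Topology.Maps.Basic

/-!
# Stalks of direct images along embeddings and the unit on modules with torsion stalks
-/

universe u

open CategoryTheory CategoryTheory.Limits Opposite TopologicalSpace

set_option autoImplicit false
set_option backward.isDefEq.respectTransparency false
set_option backward.isDefEq.respectTransparency.types false
set_option linter.style.haveILetI false

noncomputable section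

namespace Groth.Agent.FSchTors

open Groth.Agent.KFlat (PStalk pgerm pgerm_res pgerm_smul exists_pgerm)
open TensorProduct

/-- a ring map which is bijective modulo all powers of an ideal -/
structure BijMod {R R' : Type u} [CommRing R] [CommRing R'] (φ : R →+* R') (I : Ideal R) : Prop where
  surj : ∀ (n : ℕ) (r' : R'), ∃ r, r' - φ r ∈ (I ^ n).map φ
  inj : ∀ (n : ℕ) (r : R), φ r ∈ (I ^ n).map φ → r ∈ I ^ n

section Algebra

variable {R R' : Type u} [CommRing R] [CommRing R'] {φ : R →+* R'} {I : Ideal R}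
  {N : Type u} [AddCommGroup N] [Module R N]

theorem BijMod.bijective_tmul (h : BijMod φ I) (hN : LocCoh.IsPowerTorsion I N) :
    letI := φ.toAlgebra
    Function.Bijective fun m : N => (1 : R') ⊗ₜ[R] m := by
  letI := φ.toAlgebra
  choose d hd using hN
  choose ρ hρ using h.surj
  let g : R' → N → N := fun r' m => ρ (d m) r' • m
  have hg : ∀ (r' : R') (m : N) (n : ℕ) (r : R), (∀ a ∈ I ^ n, a • m = 0) → r' - φ r ∈ (I ^ n).map φ → g r' m = r • m := by
    intro r' m n r hn hr
    rw [← sub_eq_zero, ← sub_smul]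
    have hk : ∀ k : ℕ, k = min (d m) n → ρ (d m) r' - r ∈ I ^ k := fun k hk => by
      refine h.inj k _ ?_
      have h1 := sub_mem (Ideal.map_mono (f := φ) (Ideal.pow_le_pow_right (hk ▸ min_le_right _ _ : k ≤ n)) hr)
        (Ideal.map_mono (f := φ) (Ideal.pow_le_pow_right (hk ▸ min_le_left _ _ : k ≤ d m)) (hρ (d m) r'))
      rwa [sub_sub_sub_cancel_left, ← map_sub] at h1
    rcases min_choice (d m) n with e | e
    · exact hd m _ (hk _ e.symm)
    · exact hn _ (hk _ e.symm)
  let G : R' →ₗ[R] N →ₗ[R] N := LinearMap.mk₂ R g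
    (fun r' s' m => by
      rw [hg (r' + s') m (d m) (ρ (d m) r' + ρ (d m) s') (hd m) (by
        rw [map_add, add_sub_add_comm]; exact add_mem (hρ _ _) (hρ _ _)), add_smul])
    (fun c r' m => by
      rw [hg (c • r') m (d m) (c * ρ (d m) r') (hd m) (by
        rw [Algebra.smul_def, RingHom.algebraMap_toAlgebra, map_mul, ← mul_sub]
        exact Ideal.mul_mem_left _ _ (hρ _ _)), mul_smul])
    (fun r' m m' => by
      let k := d m + d m' + d (m + m')
      have hle : ∀ x : N, d x ≤ k → ∀ a ∈ I ^ k, a • x = 0 := fun x e a ha => hd x a (Ideal.pow_le_pow_right e ha)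
      have hm := hle m (by simp only [k]; omega)
      have hm' := hle m' (by simp only [k]; omega)
      rw [hg r' (m + m') k (ρ k r') (hle _ (by simp only [k]; omega)) (hρ _ _), hg r' m k (ρ k r') hm (hρ _ _),
        hg r' m' k (ρ k r') hm' (hρ _ _), smul_add])
    (fun c r' m => by
      rw [hg r' (c • m) (d m) (ρ (d m) r') (fun a ha => by rw [smul_comm, hd m a ha, smul_zero]) (hρ _ _)]
      exact smul_comm _ _ _)
  refine ⟨fun m m' e => ?_, fun z => ?_⟩
  · have h1 : ∀ x : N, TensorProduct.lift G ((1 : R') ⊗ₜ[R] x) = x := fun x => by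
      rw [TensorProduct.lift.tmul]
      show g 1 x = x
      rw [hg 1 x (d x) 1 (hd x) (by simp), one_smul]
    rw [← h1 m, ← h1 m']
    exact congrArg _ e
  · induction z using TensorProduct.induction_on with
    | zero => exact ⟨0, tmul_zero _ _⟩
    | tmul r' m =>
      refine ⟨ρ (d m) r' • m, ?_⟩
      have h0 : ∀ w ∈ (I ^ d m).map φ, w ⊗ₜ[R] m = 0 := fun w hw => by
        rw [Ideal.map] at hw
        induction hw using Submodule.span_induction with
        | mem y hy =>
          obtain ⟨a, ha, rfl⟩ := hy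
          rw [show φ a = a • (1 : R') from (Algebra.smul_def a (1 : R')).trans (mul_one _) |>.symm, smul_tmul,
            hd m a ha, tmul_zero]
        | zero => exact zero_tmul _ _
        | add y z _ _ hy hz => rw [add_tmul, hy, hz, add_zero]
        | smul c y _ hy =>
          have h1 := congrArg (fun t => (TensorProduct.map (LinearMap.mulLeft R c) LinearMap.id : _ →ₗ[R] R' ⊗[R] N) t) hy
          simpa using h1
      have h1 := h0 _ (hρ (d m) r')
      rw [sub_tmul, sub_eq_zero] at h1
      rw [h1]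
      show (1 : R') ⊗ₜ[R] (ρ (d m) r' • m) = _
      rw [← smul_tmul, Algebra.smul_def, mul_one]
      rfl
    | add a b ha hb =>
      obtain ⟨a, rfl⟩ := ha
      obtain ⟨b, rfl⟩ := hb
      exact ⟨a + b, tmul_add _ _ _⟩

theorem BijMod.bijective_unit (h : BijMod φ I) (P : ModuleCat.{u} R) (hP : LocCoh.IsPowerTorsion I P) :
    Function.Bijective ((ModuleCat.extendRestrictScalarsAdj.{u, u, u} φ).unit.app P) :=
  h.bijective_tmul hP

end Algebra

section Space

variable {X Y : TopCat.{u}} {O_X : TopCat.Sheaf CommRingCat.{u} X} {O_Y : TopCat.Sheaf CommRingCat.{u} Y} (f : X ⟶ Y)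
  (c : O_Y ⟶ ((Opens.map f).sheafPushforwardContinuous CommRingCat.{u} (Opens.grothendieckTopology Y)
    (Opens.grothendieckTopology X)).obj O_X) (x : X)

open RSStalk

/-- the germ of a section of a direct image, compared with the germ upstairs -/
def pushCmp (M : ModSite.Mod O_X) :
    (st O_Y (f x)).obj ((rmor f c).push.obj M) ⟶ (ModuleCat.restrictScalars (smap f c x).hom).obj ((st O_X x).obj M) :=
  (st O_Y (f x)).map ((rmor f c).push.map ((skyAdjunction x).unit.app M) ≫ (skyPushNatIso f c x).inv.app _) ≫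
    (skyStalkIso (f x) _).hom

theorem skyUnit_apply (M : ModSite.Mod O_X) (V : Opens X) (hV : x ∈ V) (s : ModSite.sect M V) :
    (((skyAdjunction x).unit.app M).val.app (op V) s : SkySec x ((st O_X x).obj M) V) ⟨hV⟩ =
      pgerm ((toP O_X).obj M) x V hV s := rfl

theorem pushCmp_germ (M : ModSite.Mod O_X) (U : Opens Y) (hU : f x ∈ U)
    (s : ModSite.sect M ((Opens.map f).obj U)) :
    pushCmp f c x M (pgerm ((toP O_Y).obj ((rmor f c).push.obj M)) (f x) U hU s) =
      pgerm ((toP O_X).obj M) x ((Opens.map f).obj U) hU s := by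
  let ψ := (rmor f c).push.map ((skyAdjunction x).unit.app M) ≫ (skyPushNatIso f c x).inv.app _
  refine (congrArg (skyEvalₗ (f x) _) (pstMap_germ ((toP O_Y).map ψ) (f x) hU s)).trans ?_
  exact skyEval_germ (f x) _ U hU _

theorem pushCmp_bijective (hf : Topology.IsInducing f) (M : ModSite.Mod O_X) :
    Function.Bijective (pushCmp f c x M) := by
  refine ⟨(injective_iff_map_eq_zero _).2 fun z hz => ?_, fun m => ?_⟩
  · obtain ⟨U, hU, s, rfl⟩ := exists_pgerm ((toP O_Y).obj ((rmor f c).push.obj M)) (f x) z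
    rw [pushCmp_germ] at hz
    have h0 : pgerm ((toP O_X).obj M) x ((Opens.map f).obj U) hU s =
        pgerm ((toP O_X).obj M) x ((Opens.map f).obj U) hU 0 := hz.trans (map_zero _).symm
    obtain ⟨V, hxV, i₁, i₂, e⟩ := TopCat.Presheaf.germ_eq ((toP O_X).obj M).presheaf x hU hU _ _ h0
    obtain ⟨U', hU', rfl⟩ : ∃ U', U' ≤ U ∧ (Opens.map f).obj U' = V := by
      refine ⟨U ⊓ hf.functorObj V, inf_le_left, ?_⟩
      ext z
      have h1 : z ∈ (Opens.map f).obj (hf.functorObj V) ↔ z ∈ V := by rw [hf.map_functorObj]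
      exact ⟨fun hz => h1.1 hz.2, fun hz => ⟨i₁.le hz, h1.2 hz⟩⟩
    rw [← pgerm_res ((toP O_Y).obj ((rmor f c).push.obj M)) (f x) hU' hxV s]
    refine Eq.trans ?_ (map_zero (pgerm ((toP O_Y).obj ((rmor f c).push.obj M)) (f x) U' hxV))
    refine congrArg _ ?_
    exact e.trans (map_zero _)
  · obtain ⟨V, hV, t, rfl⟩ := exists_pgerm ((toP O_X).obj M) x m
    have hle : (Opens.map f).obj (hf.functorObj V) ≤ V := (hf.map_functorObj V).le
    have hxV : x ∈ (Opens.map f).obj (hf.functorObj V) := by rw [hf.map_functorObj]; exact hV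
    refine ⟨pgerm ((toP O_Y).obj ((rmor f c).push.obj M)) (f x) _ hxV
      (((toP O_X).obj M).map (homOfLE hle).op t), ?_⟩
    rw [pushCmp_germ]
    exact pgerm_res _ x hle hxV t

theorem st_unit_pushCmp (N : ModSite.Mod O_Y) :
    (st O_Y (f x)).map ((rmor f c).adj.unit.app N) ≫ pushCmp f c x ((rmor f c).pull.obj N) =
      (ModuleCat.extendRestrictScalarsAdj (smap f c x).hom).unit.app ((st O_Y (f x)).obj N) ≫
        (ModuleCat.restrictScalars (smap f c x).hom).map ((pullStalkIso f c x).inv.app N) := by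
  let adj1 := ((rmor f c).adj.comp (skyAdjunction x)).ofNatIsoRight (skyPushNatIso f c x).symm
  let adj2 := (skyAdjunction (f x)).comp (ModuleCat.extendRestrictScalarsAdj.{u, u, u} (smap f c x).hom)
  have h1 : adj2.unit.app N ≫ (ModuleCat.restrictScalars (smap f c x).hom ⋙ sky (f x)).map
      ((pullStalkIso f c x).inv.app N) = adj1.unit.app N := by
    have := Adjunction.unit_leftAdjointUniq_hom_app adj2 adj1 N
    convert this using 2
    rfl
  have h2 := congrArg ((skyAdjunction (f x)).homEquiv N _).symm h1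
  have hl : ∀ {P : ModuleCat.{u} ((rg O_Y).stalk (f x))} (g : N ⟶ (sky (f x)).obj P),
      ((skyAdjunction (f x)).homEquiv N P).symm g = (st O_Y (f x)).map g ≫ (skyStalkIso (f x) P).hom := fun g => by
    simp only [skyAdjunction, Adjunction.mkOfHomEquiv_homEquiv]
    rfl
  have h3 : adj1.unit.app N = (rmor f c).adj.unit.app N ≫
      ((rmor f c).push.map ((skyAdjunction x).unit.app ((rmor f c).pull.obj N)) ≫
        (skyPushNatIso f c x).inv.app _) := by
    simp [adj1, Adjunction.ofNatIsoRight, Adjunction.comp]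
  have h4 : adj2.unit.app N = (skyAdjunction (f x)).unit.app N ≫
      (sky (f x)).map ((ModuleCat.extendRestrictScalarsAdj (smap f c x).hom).unit.app ((st O_Y (f x)).obj N)) := by
    simp [adj2, Adjunction.comp]
  rw [h3, h4, Functor.comp_map, Category.assoc, ← Functor.map_comp] at h2
  have hL : ∀ {P : ModuleCat.{u} ((rg O_Y).stalk (f x))} (g : (st O_Y (f x)).obj N ⟶ P),
      ((skyAdjunction (f x)).homEquiv N P).symm ((skyAdjunction (f x)).unit.app N ≫ (sky (f x)).map g) = g :=
    fun g => by rw [← Adjunction.homEquiv_unit, Equiv.symm_apply_apply]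
  erw [hL, hl] at h2
  refine Eq.trans ?_ h2.symm
  rw [pushCmp, ← Category.assoc, ← Functor.map_comp]
  rfl

/-- stalks of the unit at modules with torsion stalks -/
theorem bijective_st_unit (hf : Topology.IsInducing f) {N : ModSite.Mod O_Y} {I : Ideal ((rg O_Y).stalk (f x))}
    (h : BijMod (smap f c x).hom I) (hN : LocCoh.IsPowerTorsion I ((st O_Y (f x)).obj N)) :
    Function.Bijective ((st O_Y (f x)).map ((rmor f c).adj.unit.app N)) := by
  haveI : IsIso ((ModuleCat.extendRestrictScalarsAdj.{u, u, u} (smap f c x).hom).unit.app ((st O_Y (f x)).obj N)) :=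
    (ConcreteCategory.isIso_iff_bijective _).2 (h.bijective_unit _ hN)
  haveI : IsIso (pushCmp f c x ((rmor f c).pull.obj N)) :=
    (ConcreteCategory.isIso_iff_bijective _).2 (pushCmp_bijective f c x hf _)
  haveI : IsIso ((st O_Y (f x)).map ((rmor f c).adj.unit.app N) ≫ pushCmp f c x ((rmor f c).pull.obj N)) := by
    rw [st_unit_pushCmp]; infer_instance
  exact (ConcreteCategory.isIso_iff_bijective _).1 (IsIso.of_isIso_comp_right _ (pushCmp f c x ((rmor f c).pull.obj N)))

/-- the direct image of a section away from the image vanishes -/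
theorem isZero_st_push_of_notMem (hf : IsClosed (Set.range f)) {y : Y} (hy : y ∉ Set.range f) (M : ModSite.Mod O_X) :
    IsZero ((st O_Y y).obj ((rmor f c).push.obj M)) := by
  rw [ModuleCat.isZero_iff_subsingleton]
  refine subsingleton_of_forall_eq 0 fun z => ?_
  obtain ⟨U, hU, s, rfl⟩ := exists_pgerm ((toP O_Y).obj ((rmor f c).push.obj M)) y z
  let W : Opens Y := U ⊓ ⟨(Set.range f)ᶜ, hf.isOpen_compl⟩
  rw [← pgerm_res ((toP O_Y).obj ((rmor f c).push.obj M)) y (show W ≤ U from inf_le_left) ⟨hU, hy⟩ s]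
  refine Eq.trans ?_ (map_zero (pgerm ((toP O_Y).obj ((rmor f c).push.obj M)) y W ⟨hU, hy⟩))
  refine congrArg _ ?_
  exact RSFin.eq_zero_of_locally M _ fun w hw => absurd ⟨w, rfl⟩ hw.2

end Space

end Groth.Agent.FSchTors
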