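import Groth.Agent.FSchTors.Stalk
import Groth.Agent.RGammaI.Torsion
import Mathlib.Algebra.Homology.ShortComplex.PreservesHomology

/-!
# The torsion subcomplex of a complex of injective modules on a locally noetherian formal scheme
-/

universe u

open CategoryTheory CategoryTheory.Limits AlgebraicGeometry TopologicalSpace Opposite
open Groth.Agent.RSFin (sc rsR rs)

set_option autoImplicit false
set_option backward.isDefEq.respectTransparency false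
set_option linter.style.haveILetI false

noncomputable section

namespace Groth.Agent.FSchTors

variable {𝔛 : FSch.Sys.{u}} (h𝔛 : 𝔛.IsLocNoethFormal)

section Germ

variable {U : (𝔛.X 0).Opens} (hU : IsAffineOpen U) {x : 𝔛.X 0} (hx : x ∈ U) (F : FSch.ModF 𝔛 h𝔛.1)

include hU

theorem gst_mem_torsionSub {V : (𝔛.X 0).Opens} (hV : x ∈ V) (hVU : V ≤ U) {n : ℕ} {t : ModSite.sect F V}
    (h : FTors.KilledBy (FTors.openIdealFam 𝔛 h𝔛.1) F n t) :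
    gst F hx hV t ∈ DRing.torsionSub (FSchCoh.JA 𝔛 h𝔛.1 U) ((stF h𝔛 hx).obj F) := by
  refine ⟨n + 1, fun a ha => ?_⟩
  refine (gst_smul F hx hV hVU a t).symm.trans ?_
  have h1 := h (𝟙 V) (rsR hVU a) ((FTors.openIdealFam 𝔛 h𝔛.1).map_mem n (homOfLE hVU)
    ((FTors.mem_openIdealFam_iff _ _ _ _ _).2 (by
      rw [← (FSchCoh.main 𝔛 h𝔛.1 h𝔛 hU).2.2, RingHom.mem_ker] at ha
      exact ha)))
  rw [FTors.res_id] at h1
  rw [h1, map_zero]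

theorem exists_killedBy {V : (𝔛.X 0).Opens} (hV : x ∈ V) (hVU : V ≤ U) {t : ModSite.sect F V}
    (h : gst F hx hV t ∈ DRing.torsionSub (FSchCoh.JA 𝔛 h𝔛.1 U) ((stF h𝔛 hx).obj F)) :
    ∃ (W : (𝔛.X 0).Opens) (hW : W ≤ V) (n : ℕ), x ∈ W ∧
      FTors.KilledBy (FTors.openIdealFam 𝔛 h𝔛.1) F n (rs F hW t) := by
  classical
  obtain ⟨n, hn⟩ := h
  haveI : IsNoetherianRing (sc (𝔛.Osh h𝔛.1) U) := (FSchCoh.main 𝔛 h𝔛.1 h𝔛 hU).1
  obtain ⟨k, b, hb⟩ := Submodule.fg_iff_exists_fin_generating_family.1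
    (IsNoetherian.noetherian (FSchCoh.JA 𝔛 h𝔛.1 U ^ (n + 1) : Ideal (sc (𝔛.Osh h𝔛.1) U)))
  obtain ⟨W, hW, hxW, hbW⟩ := RSFin.exists_rs_eq F hV (a := fun i => rsR hVU (b i) • t) (b := fun _ => 0) fun i => by
    refine (RSStalk.fibAdd F x).injective ((gst_smul F hx hV hVU (b i) t).trans ?_)
    rw [hn _ (Ideal.pow_le_pow_right n.le_succ (hb ▸ Submodule.subset_span ⟨i, rfl⟩)), map_zero, map_zero]
  obtain ⟨a, W', hxW', hle, d⟩ := FSchCoh.exists_dist 𝔛 h𝔛.1 hU (hW.trans hVU) hxW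
  refine ⟨W', hle.trans hW, n, hxW', (FSchCoh.killedBy_iff h𝔛 d.affine _).2 fun c hc => ?_⟩
  have hc' := FSchCoh.JA_pow_le_map h𝔛 hU d n hc
  rw [Ideal.map] at hc'
  have h0 : ∀ i, rsR d.le (b i) • rs F (hle.trans hW) t = 0 := fun i => by
    have := congrArg (rs F hle) (hbW i)
    rwa [RSFin.rs_smul, RSFin.rs_smul, map_zero, RSFin.rs_rs, map_zero, RSFin.rsR_rsR, RSFin.rsR_rsR] at this
  have h2 : ∀ y ∈ (FSchCoh.JA 𝔛 h𝔛.1 U ^ (n + 1) : Ideal (sc (𝔛.Osh h𝔛.1) U)),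
      rsR d.le y • rs F (hle.trans hW) t = 0 := fun y hy => by
    obtain ⟨f, rfl⟩ := (Submodule.mem_span_range_iff_exists_fun _).1 (hb.ge hy)
    rw [map_sum, Finset.sum_smul]
    exact Finset.sum_eq_zero fun i _ => by rw [smul_eq_mul, map_mul, mul_smul, h0, smul_zero]
  clear hc
  induction hc' using Submodule.span_induction with
  | mem z hz => obtain ⟨y, hy, rfl⟩ := hz; exact h2 y hy
  | zero => exact zero_smul (sc (𝔛.Osh h𝔛.1) W') _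
  | add y z _ _ hy hz => exact (add_smul (show sc (𝔛.Osh h𝔛.1) W' from y) z _).trans (by rw [hy, hz, add_zero])
  | smul r z _ hz => exact (mul_smul (show sc (𝔛.Osh h𝔛.1) W' from r) z _).trans (by rw [hz, smul_zero])

theorem gst_mem_of_isTorsSect {V : (𝔛.X 0).Opens} (hV : x ∈ V) (hVU : V ≤ U) {t : ModSite.sect F V}
    (h : FTors.IsTorsSect (FTors.openIdealFam 𝔛 h𝔛.1) F t) :
    gst F hx hV t ∈ DRing.torsionSub (FSchCoh.JA 𝔛 h𝔛.1 U) ((stF h𝔛 hx).obj F) := by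
  obtain ⟨W, hW, n, hxW, hk⟩ := (FSchCoh.isTorsSect_iff h𝔛 t).1 h x hV
  rw [← gst_rs F hx hW hxW]
  exact gst_mem_torsionSub h𝔛 hU hx F hxW (hW.trans hVU) hk

/-- the inclusion of the torsion submodule, on stalks -/
theorem stF_gammaι_injective :
    Function.Injective ((stF h𝔛 hx).map ((FTors.gammaTι 𝔛 h𝔛.1).app F)) := by
  haveI : Mono ((FTors.gammaTι 𝔛 h𝔛.1).app F) := RSFin.mono_of_injective _ fun V a b e => Subtype.ext e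
  exact (ModuleCat.mono_iff_injective _).1 inferInstance

theorem stF_gammaι_mem (e : (stF h𝔛 hx).obj ((FTors.gammaT 𝔛 h𝔛.1).obj F)) :
    (stF h𝔛 hx).map ((FTors.gammaTι 𝔛 h𝔛.1).app F) e ∈
      DRing.torsionSub (FSchCoh.JA 𝔛 h𝔛.1 U) ((stF h𝔛 hx).obj F) := by
  obtain ⟨V, hVU, hV, t, rfl⟩ := exists_gst _ hx e
  erw [gst_map]
  exact gst_mem_of_isTorsSect h𝔛 hU hx F hV hVU (t : FTors.torsSub _ F V).2

theorem stF_gammaι_surjective (e : (stF h𝔛 hx).obj F)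
    (he : e ∈ DRing.torsionSub (FSchCoh.JA 𝔛 h𝔛.1 U) ((stF h𝔛 hx).obj F)) :
    ∃ e', (stF h𝔛 hx).map ((FTors.gammaTι 𝔛 h𝔛.1).app F) e' = e := by
  obtain ⟨V, hVU, hV, t, rfl⟩ := exists_gst _ hx e
  obtain ⟨W, hW, n, hxW, hk⟩ := exists_killedBy h𝔛 hU hx F hV hVU he
  let s : ModSite.sect ((FTors.gammaT 𝔛 h𝔛.1).obj F) W := ⟨rs F hW t, FTors.IsTorsSect.of_killedBy hk⟩
  exact ⟨gst _ hx hxW s, (gst_map _ hx hxW s).trans (gst_rs F hx hW hxW t)⟩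

/-- the stalk of the torsion submodule -/
def gammaIsoObj : (stF h𝔛 hx).obj ((FTors.gammaT 𝔛 h𝔛.1).obj F) ≅
    (DRing.gammaI (FSchCoh.JA 𝔛 h𝔛.1 U)).obj ((stF h𝔛 hx).obj F) :=
  (LinearEquiv.ofBijective
    (LinearMap.codRestrict _ ((stF h𝔛 hx).map ((FTors.gammaTι 𝔛 h𝔛.1).app F)).hom (stF_gammaι_mem h𝔛 hU hx F))
    ⟨fun _ _ e => stF_gammaι_injective h𝔛 hU hx F (congrArg Subtype.val e), fun z => by
      obtain ⟨e', he'⟩ := stF_gammaι_surjective h𝔛 hU hx F z.1 z.2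
      exact ⟨e', Subtype.ext he'⟩⟩).toModuleIso

theorem gammaIsoObj_hom_val (e : (stF h𝔛 hx).obj ((FTors.gammaT 𝔛 h𝔛.1).obj F)) :
    ((gammaIsoObj h𝔛 hU hx F).hom e : DRing.torsionSub (FSchCoh.JA 𝔛 h𝔛.1 U) ((stF h𝔛 hx).obj F)).1 =
      (stF h𝔛 hx).map ((FTors.gammaTι 𝔛 h𝔛.1).app F) e := rfl

/-- stalks commute with the torsion functors -/
def gammaIso : FTors.gammaT 𝔛 h𝔛.1 ⋙ stF h𝔛 hx ≅ stF h𝔛 hx ⋙ DRing.gammaI (FSchCoh.JA 𝔛 h𝔛.1 U) :=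
  NatIso.ofComponents (gammaIsoObj h𝔛 hU hx) fun {F G} φ => by
    ext e
    apply Subtype.ext
    have h := (stF h𝔛 hx).congr_map ((FTors.gammaTι 𝔛 h𝔛.1).naturality φ)
    rw [Functor.map_comp, Functor.map_comp] at h
    exact congr($h e)

end Germ

/-- a module all of whose stalks are torsion is torsion -/
theorem isTors_of_stF {F : FSch.ModF 𝔛 h𝔛.1}
    (h : ∀ {U : (𝔛.X 0).Opens} (_ : IsAffineOpen U) {x : 𝔛.X 0} (hx : x ∈ U),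
      LocCoh.IsPowerTorsion (FSchCoh.JA 𝔛 h𝔛.1 U) ((stF h𝔛 hx).obj F)) :
    FTors.IsTorsF 𝔛 h𝔛.1 F := fun V t => (FSchCoh.isTorsSect_iff h𝔛 t).2 fun y hy => by
  obtain ⟨U, hU, hyU, hle⟩ := exists_isAffineOpen_mem_and_subset (X := 𝔛.X 0) (x := y) (U := V) hy
  obtain ⟨W, hW, n, hyW, hk⟩ := exists_killedBy h𝔛 hU hyU F hyU le_rfl (h hU hyU (gst F hyU hyU (rs F hle t)))
  exact ⟨W, hW.trans hle, n, hyW, by rwa [RSFin.rs_rs] at hk⟩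

theorem isPowerTorsion_stF {F : FSch.ModF 𝔛 h𝔛.1} (hF : FTors.IsTorsF 𝔛 h𝔛.1 F) {U : (𝔛.X 0).Opens}
    (hU : IsAffineOpen U) {x : 𝔛.X 0} (hx : x ∈ U) :
    LocCoh.IsPowerTorsion (FSchCoh.JA 𝔛 h𝔛.1 U) ((stF h𝔛 hx).obj F) := fun e => by
  obtain ⟨V, hVU, hV, t, rfl⟩ := exists_gst _ hx e
  exact gst_mem_of_isTorsSect h𝔛 hU hx F hV hVU (hF V t)

/-- `Γ'` on complexes -/
abbrev gc (J : CochainComplex (FSch.ModF 𝔛 h𝔛.1) ℤ) : CochainComplex (FSch.ModF 𝔛 h𝔛.1) ℤ :=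
  ((FTors.gammaT 𝔛 h𝔛.1).mapHomologicalComplex (ComplexShape.up ℤ)).obj J

/-- `Γ'` on maps of complexes -/
abbrev gm {J J' : CochainComplex (FSch.ModF 𝔛 h𝔛.1) ℤ} (f : J ⟶ J') : gc h𝔛 J ⟶ gc h𝔛 J' :=
  ((FTors.gammaT 𝔛 h𝔛.1).mapHomologicalComplex (ComplexShape.up ℤ)).map f

/-- `Γ' J → J` -/
def gι (J : CochainComplex (FSch.ModF 𝔛 h𝔛.1) ℤ) : gc h𝔛 J ⟶ J where
  f i := (FTors.gammaTι 𝔛 h𝔛.1).app (J.X i)
  comm' i j _ := ((FTors.gammaTι 𝔛 h𝔛.1).naturality (J.d i j)).symm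

lemma gι_natural {J J' : CochainComplex (FSch.ModF 𝔛 h𝔛.1) ℤ} (f : J ⟶ J') :
    gm h𝔛 f ≫ gι h𝔛 J' = gι h𝔛 J ≫ f := by
  ext i : 1
  exact (FTors.gammaTι 𝔛 h𝔛.1).naturality (f.f i)

variable {U : (𝔛.X 0).Opens} (hU : IsAffineOpen U) {x : 𝔛.X 0} (hx : x ∈ U)

/-- stalks of complexes -/
abbrev stC : CochainComplex (FSch.ModF 𝔛 h𝔛.1) ℤ ⥤ DRing.Cx (FSchCoh.OA 𝔛 h𝔛.1 U) :=
  (stF h𝔛 hx).mapHomologicalComplex (ComplexShape.up ℤ)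

/-- the stalk of `Γ' J` -/
def stGcIso (J : CochainComplex (FSch.ModF 𝔛 h𝔛.1) ℤ) :
    (stC h𝔛 hx).obj (gc h𝔛 J) ≅ RGammaI.gc (FSchCoh.JA 𝔛 h𝔛.1 U) ((stC h𝔛 hx).obj J) :=
  HomologicalComplex.Hom.isoOfComponents (fun i => (gammaIso h𝔛 hU hx).app (J.X i))
    fun i j _ => ((gammaIso h𝔛 hU hx).hom.naturality (J.d i j)).symm

theorem stGcIso_gι (J : CochainComplex (FSch.ModF 𝔛 h𝔛.1) ℤ) :
    (stGcIso h𝔛 hU hx J).hom ≫ RGammaI.gι (FSchCoh.JA 𝔛 h𝔛.1 U) ((stC h𝔛 hx).obj J) =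
      (stC h𝔛 hx).map (gι h𝔛 J) := by
  ext i : 1
  rfl

omit hU hx in
/-- all stalks are termwise injective -/
def SI (J : CochainComplex (FSch.ModF 𝔛 h𝔛.1) ℤ) : Prop :=
  ∀ {U : (𝔛.X 0).Opens} (_ : IsAffineOpen U) {x : 𝔛.X 0} (hx : x ∈ U), RGammaI.TI ((stC h𝔛 hx).obj J)

omit hU hx in
theorem si_of_injective {J : CochainComplex (FSch.ModF 𝔛 h𝔛.1) ℤ} (hJ : ∀ i, Injective (J.X i)) : SI h𝔛 J :=
  fun hU _ hx i =>
    haveI := hJ i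
    injective_stF h𝔛 hU hx (J.X i)

omit hU hx in
theorem SI.gc {J : CochainComplex (FSch.ModF 𝔛 h𝔛.1) ℤ} (hJ : SI h𝔛 J) : SI h𝔛 (Groth.Agent.FSchTors.gc h𝔛 J) :=
  fun {U} hU {x} hx i =>
    haveI : IsNoetherianRing (FSchCoh.OA 𝔛 h𝔛.1 U) := (FSchCoh.main 𝔛 h𝔛.1 h𝔛 hU).1
    haveI : Injective (((DRing.gammaI (FSchCoh.JA 𝔛 h𝔛.1 U))).obj (((stC h𝔛 hx).obj J).X i)) :=
      ((hJ hU hx).gc (FSchCoh.JA 𝔛 h𝔛.1 U)) i
    Injective.of_iso ((gammaIso h𝔛 hU hx).app (J.X i)).symm this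

/-- quasi-isomorphisms are detected on stalks -/
theorem quasiIso_of_stC {J J' : CochainComplex (FSch.ModF 𝔛 h𝔛.1) ℤ} (f : J ⟶ J')
    (h : ∀ {U : (𝔛.X 0).Opens} (_ : IsAffineOpen U) {x : 𝔛.X 0} (hx : x ∈ U), QuasiIso ((stC h𝔛 hx).map f)) :
    QuasiIso f := ⟨fun i => by
  rw [quasiIsoAt_iff_isIso_homologyMap]
  refine isIso_of_stA _ fun x => ?_
  obtain ⟨U, hU, hxU, -⟩ := exists_isAffineOpen_mem_and_subset (X := 𝔛.X 0) (x := x) (U := ⊤) trivial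
  refine ⟨U, hxU, ?_⟩
  haveI := h hU hxU
  haveI : IsIso (ShortComplex.homologyMap ((stF h𝔛 hxU).mapShortComplex.map
      ((HomologicalComplex.shortComplexFunctor _ (ComplexShape.up ℤ) i).map f))) :=
    inferInstanceAs (IsIso (HomologicalComplex.homologyMap ((stC h𝔛 hxU).map f) i))
  have h1 := ShortComplex.mapHomologyIso_hom_naturality
    ((HomologicalComplex.shortComplexFunctor _ (ComplexShape.up ℤ) i).map f) (stF h𝔛 hxU)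
  exact IsIso.of_isIso_fac_left h1.symm⟩

/-- the homology of a stalk -/
def stHomIso (J : CochainComplex (FSch.ModF 𝔛 h𝔛.1) ℤ) (i : ℤ) :
    ((stC h𝔛 hx).obj J).homology i ≅ (stF h𝔛 hx).obj (J.homology i) :=
  ShortComplex.mapHomologyIso (J.sc i) (stF h𝔛 hx)

theorem isPowerTorsion_of_iso {A : Type u} [CommRing A] {I : Ideal A} {M N : ModuleCat.{u} A} (e : M ≅ N)
    (h : LocCoh.IsPowerTorsion I N) : LocCoh.IsPowerTorsion I M := fun m => by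
  obtain ⟨n, hn⟩ := h (e.toLinearEquiv m)
  exact ⟨n, fun a ha => e.toLinearEquiv.injective (by rw [map_smul, map_zero]; exact hn a ha)⟩

omit hU hx in
/-- `Γ' J → J` for a complex of injectives with torsion cohomology -/
theorem quasiIso_gι {J : CochainComplex (FSch.ModF 𝔛 h𝔛.1) ℤ} (hJ : SI h𝔛 J)
    (h : ∀ i, FTors.IsTorsF 𝔛 h𝔛.1 (J.homology i)) : QuasiIso (gι h𝔛 J) :=
  quasiIso_of_stC h𝔛 _ fun {U} hU {x} hx => by
    haveI : IsNoetherianRing (FSchCoh.OA 𝔛 h𝔛.1 U) := (FSchCoh.main 𝔛 h𝔛.1 h𝔛 hU).1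
    haveI := RGammaI.quasiIso_gι (hJ hU hx) (I := FSchCoh.JA 𝔛 h𝔛.1 U) fun i =>
      isPowerTorsion_of_iso (stHomIso h𝔛 hx J i) (isPowerTorsion_stF h𝔛 (h i) hU hx)
    rw [← stGcIso_gι h𝔛 hU hx]
    infer_instance

omit hU hx in
/-- the cohomology of `Γ' J` is torsion -/
theorem isTors_homology_gc (J : CochainComplex (FSch.ModF 𝔛 h𝔛.1) ℤ) (i : ℤ) :
    FTors.IsTorsF 𝔛 h𝔛.1 ((gc h𝔛 J).homology i) :=
  isTors_of_stF h𝔛 fun {U} hU {x} hx =>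
    isPowerTorsion_of_iso ((stHomIso h𝔛 hx (gc h𝔛 J) i).symm ≪≫
      (HomologicalComplex.homologyFunctor _ _ i).mapIso (stGcIso h𝔛 hU hx J))
      (RGammaI.isPowerTorsion_homology_gc _ _ i)

omit hU hx in
/-- `Γ'` preserves quasi-isomorphisms between complexes of injectives -/
theorem quasiIso_gm {J J' : CochainComplex (FSch.ModF 𝔛 h𝔛.1) ℤ} (hJ : SI h𝔛 J) (hJ' : SI h𝔛 J')
    (f : J ⟶ J') [QuasiIso f] : QuasiIso (gm h𝔛 f) :=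
  quasiIso_of_stC h𝔛 _ fun {U} hU {x} hx => by
    haveI : IsNoetherianRing (FSchCoh.OA 𝔛 h𝔛.1 U) := (FSchCoh.main 𝔛 h𝔛.1 h𝔛 hU).1
    haveI := RGammaI.quasiIso_gm (FSchCoh.JA 𝔛 h𝔛.1 U) (hJ hU hx) (hJ' hU hx) ((stC h𝔛 hx).map f)
    have e : (stC h𝔛 hx).map (gm h𝔛 f) ≫ (stGcIso h𝔛 hU hx J').hom = (stGcIso h𝔛 hU hx J).hom ≫
        RGammaI.gm (FSchCoh.JA 𝔛 h𝔛.1 U) ((stC h𝔛 hx).map f) := by
      ext i : 1
      exact (gammaIso h𝔛 hU hx).hom.naturality (f.f i)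
    haveI : QuasiIso ((stC h𝔛 hx).map (gm h𝔛 f) ≫ (stGcIso h𝔛 hU hx J').hom) := by rw [e]; infer_instance
    exact quasiIso_of_comp_right _ (stGcIso h𝔛 hU hx J').hom

end Groth.Agent.FSchTors
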