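import Groth.Agent.FSchTors.ComplRing
import Groth.Agent.FSchTors.PushStalk
import Groth.Agent.FSchTors.Torsion
import Groth.Agent.ClosedPush.Basic

/-!
# Torsion modules on a scheme and on its completion
-/

universe u

open CategoryTheory CategoryTheory.Limits AlgebraicGeometry TopologicalSpace Opposite
open Groth.Agent.KFlat (PStalk pgerm pgerm_res pgerm_smul exists_pgerm)
open Groth.Agent.RSFin (sc rs rsR)

set_option autoImplicit false
set_option backward.isDefEq.respectTransparency false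
set_option backward.isDefEq.respectTransparency.types false
set_option linter.style.haveILetI false

noncomputable section

namespace Groth.Agent.FSchTors

open FSchCoh (OA JA)

variable {X : Scheme.{u}} [IsLocallyNoetherian X] (𝓘 : X.IdealSheafData) (hX : (FSch.completionAlong X 𝓘).IsFormal)

/-- the completion morphism -/
abbrev κC : ModSite.RMor ((FSch.completionAlong X 𝓘).Osh hX) X.sheaf :=
  FSch.toSchemeMor (FSch.completionAlong X 𝓘) hX (FSch.completionToX X 𝓘) (FSch.completionToX_comm X 𝓘)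

omit [IsLocallyNoetherian X] in
theorem isClosedEmbedding_pC : Topology.IsClosedEmbedding (pC 𝓘) :=
  (FSch.completionToX X 𝓘 0).isClosedEmbedding

omit [IsLocallyNoetherian X] in
theorem pow_le_powIdealFam {W : X.Opens} (hW : IsAffineOpen W) (n : ℕ) :
    𝓘.ideal ⟨W, hW⟩ ^ n ≤ (FTors.powIdealFam X 𝓘).ideal n W := fun a ha => by
  rw [FTors.mem_powIdealFam_iff]
  intro W' hle
  have h1 := Ideal.mem_map_of_mem (X.presheaf.map (homOfLE hle).op).hom ha
  rw [Ideal.map_pow] at h1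
  erw [Scheme.IdealSheafData.map_ideal 𝓘 (U := W') (V := ⟨W, hW⟩) hle] at h1
  exact h1

omit [IsLocallyNoetherian X] in
/-- stalks of power torsion modules -/
theorem isPowerTorsion_st {N : ModSite.Mod X.sheaf} (hN : FTors.IsTorsZp X 𝓘 N) {W : X.Opens} (hW : IsAffineOpen W)
    {y : X} (hy : y ∈ W) : LocCoh.IsPowerTorsion (stI 𝓘 hW hy) ((RSStalk.st X.sheaf y).obj N) := fun z => by
  obtain ⟨V, hV, t, rfl⟩ := exists_pgerm ((RSStalk.toP X.sheaf).obj N) y z
  obtain ⟨W₀, g, ⟨n, hn⟩, hy₀⟩ := hN V t y hV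
  obtain ⟨W', hW', hy', hle⟩ := exists_isAffineOpen_mem_and_subset (U := W ⊓ W₀) (x := y) ⟨hy, hy₀⟩
  have hlW : W' ≤ W := fun p hp => (hle hp).1
  have hl₀ : W' ≤ W₀ := fun p hp => (hle hp).2
  have hk := hn.res (homOfLE hl₀)
  rw [← FTors.res_comp] at hk
  refine ⟨n, fun a ha => ?_⟩
  rw [← stI_eq 𝓘 hW hW' hlW hy', stI, ← Ideal.map_pow, Ideal.map] at ha
  induction ha using Submodule.span_induction with
  | mem b hb =>
    obtain ⟨a₀, ha₀, rfl⟩ := hb
    have h0 := hk (𝟙 W') a₀ (pow_le_powIdealFam 𝓘 hW' n ha₀)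
    rw [FTors.res_id] at h0
    have h1 := congrArg (pgerm ((RSStalk.toP X.sheaf).obj N) y W' hy') h0
    rw [map_zero] at h1
    refine Eq.trans ?_ h1
    refine Eq.trans ?_ (pgerm_smul ((RSStalk.toP X.sheaf).obj N) y hy' a₀ _).symm
    exact congrArg (_ • ·) (pgerm_res ((RSStalk.toP X.sheaf).obj N) y (hl₀.trans g.le) hy' t).symm
  | zero => exact zero_smul _ _
  | add a b _ _ ha hb => rw [add_smul, ha, hb, add_zero]
  | smul c a _ ha => rw [smul_eq_mul, mul_smul, ha, smul_zero]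

omit [IsLocallyNoetherian X] in
/-- power torsion modules vanish away from the closed subset -/
theorem isZero_st_of_notMem {N : ModSite.Mod X.sheaf} (hN : FTors.IsTorsZp X 𝓘 N) {y : X}
    (hy : y ∉ Set.range (pC 𝓘)) : IsZero ((RSStalk.st X.sheaf y).obj N) := by
  obtain ⟨W, hW, hyW, -⟩ := exists_isAffineOpen_mem_and_subset (U := (⊤ : X.Opens)) (x := y) trivial
  have hy' : y ∉ 𝓘.support := fun h => hy (by
    change y ∈ Set.range (FSch.completionToX X 𝓘 0)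
    have h2 := (𝓘 ^ (0 + 1)).range_subschemeι
    rw [Scheme.IdealSheafData.support_pow_succ] at h2
    exact h2.ge h)
  rw [Scheme.IdealSheafData.mem_support_iff_of_mem (U := ⟨W, hW⟩) hyW, Scheme.mem_zeroLocus_iff] at hy'
  push Not at hy'
  obtain ⟨f, hf, hyf⟩ := hy'
  have hu : IsUnit ((RSStalk.rg X.sheaf).germ W y hyW f) := (X.mem_basicOpen f y hyW).1 hyf
  rw [ModuleCat.isZero_iff_subsingleton]
  refine subsingleton_of_forall_eq 0 fun z => ?_
  obtain ⟨n, hn⟩ := isPowerTorsion_st 𝓘 hN hW hyW z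
  exact ((hu.pow n).smul_eq_zero (x := z)).1
    (hn _ (Ideal.pow_mem_pow (Ideal.mem_map_of_mem _ hf) n))

theorem bijMod {x : (FSch.completionAlong X 𝓘).X 0} {W : X.Opens} (hW : IsAffineOpen W) (hx : pC 𝓘 x ∈ W) :
    BijMod (smC 𝓘 hX x).hom (stI 𝓘 hW hx) :=
  ⟨fun n r' => stalk_surj 𝓘 hX hW hx n r', fun n r h => stalk_inj 𝓘 hX hW hx n r h⟩

/-- the unit is bijective on power torsion modules -/
theorem isIso_unitC {N : ModSite.Mod X.sheaf} (hN : FTors.IsTorsZp X 𝓘 N) : IsIso ((κC 𝓘 hX).adj.unit.app N) :=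
  RSStalk.isIso_of_stalks _ fun y => by
    by_cases hy : y ∈ Set.range (pC 𝓘)
    · obtain ⟨x, rfl⟩ := hy
      obtain ⟨W, hW, hx, -⟩ := exists_isAffineOpen_mem_and_subset (U := (⊤ : X.Opens)) (x := pC 𝓘 x) trivial
      exact (ConcreteCategory.isIso_iff_bijective _).2 (bijective_st_unit (pC 𝓘) (cC 𝓘 hX) x
        (isClosedEmbedding_pC 𝓘).isInducing (bijMod 𝓘 hX hW hx) (isPowerTorsion_st 𝓘 hN hW hx))
    · exact isIso_of_source_target_iso_zero _ (isZero_st_of_notMem 𝓘 hN hy).isoZero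
        (isZero_st_push_of_notMem (pC 𝓘) (cC 𝓘 hX) (isClosedEmbedding_pC 𝓘).isClosed_range hy _).isoZero

omit [IsLocallyNoetherian X] in
theorem smul_push (M : FSch.ModF (FSch.completionAlong X 𝓘) hX) {W : X.Opens} (a : Γ(X, W))
    (s : ModSite.sect M (preC 𝓘 W)) :
    (show ModSite.sect M (preC 𝓘 W) from
      (show sc X.sheaf W from a) • (show ModSite.sect ((κC 𝓘 hX).push.obj M) W from s)) = compR 𝓘 hX W a • s := rfl

omit [IsLocallyNoetherian X] in
theorem res_push (M : FSch.ModF (FSch.completionAlong X 𝓘) hX) {W V : X.Opens} (g : W ⟶ V)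
    (s : ModSite.sect M (preC 𝓘 V)) :
    FTors.res ((κC 𝓘 hX).push.obj M) g (show ModSite.sect ((κC 𝓘 hX).push.obj M) V from s) =
      rs M ((FSch.completionToX X 𝓘 0).preimage_mono g.le) s := rfl

theorem compR_mem_JA {W : X.Opens} (hW : IsAffineOpen W) (n : ℕ) {a : Γ(X, W)}
    (ha : a ∈ (FTors.powIdealFam X 𝓘).ideal (n + 1) W) :
    compR 𝓘 hX W a ∈ JA (FSch.completionAlong X 𝓘) hX (preC 𝓘 W) ^ (n + 1) := by
  refine (mem_JA_iff 𝓘 hX hW n a).2 ?_
  have h1 := (FTors.mem_powIdealFam_iff X 𝓘 (n + 1) W a).1 ha ⟨W, hW⟩ le_rfl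
  rwa [show homOfLE (le_rfl : W ≤ W) = 𝟙 W from rfl, op_id, X.presheaf.map_id] at h1

/-- torsion sections of a direct image: the sufficient condition -/
theorem isTorsSect_push (M : FSch.ModF (FSch.completionAlong X 𝓘) hX) {V : X.Opens}
    {t : ModSite.sect ((κC 𝓘 hX).push.obj M) V}
    (hM : FTors.IsTorsSect (FTors.openIdealFam (FSch.completionAlong X 𝓘) hX) M
      (show ModSite.sect M (preC 𝓘 V) from t)) :
    FTors.IsTorsSect (FTors.powIdealFam X 𝓘) ((κC 𝓘 hX).push.obj M) t := by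
  intro y hy
  have h𝔛 := S3854.result X 𝓘
  by_cases hyZ : y ∈ Set.range (pC 𝓘)
  · obtain ⟨x, rfl⟩ := hyZ
    obtain ⟨V', hV', n, hxV', hk⟩ := (FSchCoh.isTorsSect_iff h𝔛 (show ModSite.sect M (preC 𝓘 V) from t)).1
      hM x hy
    obtain ⟨W, hW, hle, hle', hx⟩ := exists_affine 𝓘 (W := V) (x := x) hy hxV'
    refine ⟨W, homOfLE hle, ⟨n + 1, ?_⟩, hx⟩
    intro W'' g a ha
    refine RSFin.eq_zero_of_locally ((κC 𝓘 hX).push.obj M) _ fun p hp => ?_
    obtain ⟨W₀, hW₀, hp₀, hle₀⟩ := exists_isAffineOpen_mem_and_subset (U := W'') (x := p) hp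
    refine ⟨W₀, hle₀, hp₀, ?_⟩
    rw [RSFin.rs_smul]
    have hg : preC 𝓘 W₀ ≤ V' := fun z hz => hle' (g.le (hle₀ hz))
    have h1 := hk (homOfLE hg) (compR 𝓘 hX W₀ (X.presheaf.map (homOfLE hle₀).op a))
      ((FTors.mem_openIdealFam_iff _ _ _ _ _).2 (by
        have h2 := compR_mem_JA 𝓘 hX hW₀ n ((FTors.powIdealFam X 𝓘).map_mem (n + 1) (homOfLE hle₀) ha)
        rw [← (FSchCoh.main _ hX h𝔛 (hW₀.preimage (FSch.completionToX X 𝓘 0))).2.2, RingHom.mem_ker] at h2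
        exact h2))
    refine (smul_push 𝓘 hX M _ _).trans (Eq.trans ?_ h1)
    refine congrArg (_ • ·) ?_
    refine (congrArg (fun z => FTors.res ((κC 𝓘 hX).push.obj M) (homOfLE hle₀) z)
      ((congrArg _ (res_push 𝓘 hX M (homOfLE hle) t)).trans (res_push 𝓘 hX M g _))).trans ?_
    refine (res_push 𝓘 hX M (homOfLE hle₀) _).trans ?_
    refine ((RSFin.rs_rs M _ _ _).trans (RSFin.rs_rs M _ _ _)).trans ?_
    exact (RSFin.rs_rs M hg hV' t).symm
  · refine ⟨V ⊓ ⟨(Set.range (pC 𝓘))ᶜ, (isClosedEmbedding_pC 𝓘).isClosed_range.isOpen_compl⟩,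
      homOfLE inf_le_left, ⟨0, fun W g a _ => ?_⟩, ⟨hy, hyZ⟩⟩
    exact RSFin.eq_zero_of_locally M _ fun z hz => absurd ⟨z, rfl⟩ (g.le hz).2

/-- torsion sections of a direct image: the necessary condition -/
theorem isTorsSect_of_push (M : FSch.ModF (FSch.completionAlong X 𝓘) hX) {V : X.Opens}
    {t : ModSite.sect ((κC 𝓘 hX).push.obj M) V}
    (hM : FTors.IsTorsSect (FTors.powIdealFam X 𝓘) ((κC 𝓘 hX).push.obj M) t) :
    FTors.IsTorsSect (FTors.openIdealFam (FSch.completionAlong X 𝓘) hX) M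
      (show ModSite.sect M (preC 𝓘 V) from t) := by
  classical
  have h𝔛 := S3854.result X 𝓘
  refine (FSchCoh.isTorsSect_iff h𝔛 _).2 fun x hx => ?_
  obtain ⟨W, hW, hWV, -, hxW⟩ := exists_affine 𝓘 (W := V) (x := x) hx (V := ⊤) trivial
  have hle : preC 𝓘 W ≤ preC 𝓘 V := (FSch.completionToX X 𝓘 0).preimage_mono hWV
  have hU := hW.preimage (FSch.completionToX X 𝓘 0)
  obtain ⟨W₀, g, ⟨n, hn⟩, hx₀⟩ := (hM.res (homOfLE hWV)) (pC 𝓘 x) hxW
  obtain ⟨W₁, hW₁, hx₁, hle₁⟩ := exists_isAffineOpen_mem_and_subset (U := W ⊓ W₀) (x := pC 𝓘 x) ⟨hxW, hx₀⟩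
  have hl₀ : W₁ ≤ W₀ := fun p hp => (hle₁ hp).2
  have hl : preC 𝓘 W₁ ≤ preC 𝓘 V := fun z hz => hle (show pC 𝓘 z ∈ W from (hle₁ hz).1)
  refine ⟨preC 𝓘 W₁, hl, n, hx₁, (FSchCoh.killedBy_iff h𝔛 (hW₁.preimage (FSch.completionToX X 𝓘 0)) _).2
    fun c hc => ?_⟩
  have hc' : c ∈ (𝓘.ideal ⟨W₁, hW₁⟩ ^ n).map (compR 𝓘 hX W₁) := by
    rw [← JA_pow_eq_map 𝓘 hX hW₁]
    exact Ideal.pow_le_pow_right n.le_succ hc
  rw [Ideal.map] at hc'
  clear hc
  induction hc' using Submodule.span_induction with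
  | mem z hz =>
    obtain ⟨a, ha, rfl⟩ := hz
    have h0 := hn (homOfLE hl₀) a (pow_le_powIdealFam 𝓘 hW₁ n ha)
    refine Eq.trans ?_ h0
    rw [← FTors.res_comp]
    refine Eq.trans ?_ (smul_push 𝓘 hX M a _).symm
    refine congrArg (_ • ·) ?_
    change rs M hl (show ModSite.sect M (preC 𝓘 V) from t) = rs M _ (rs M hle (show ModSite.sect M (preC 𝓘 V) from t))
    rw [RSFin.rs_rs]
  | zero => exact zero_smul (OA (FSch.completionAlong X 𝓘) hX (preC 𝓘 W₁)) _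
  | add y z _ _ hy hz => rw [add_smul, hy, hz, add_zero]
  | smul r z _ hz => rw [smul_eq_mul, mul_smul, hz, smul_zero]

/-- direct images of torsion modules are power torsion -/
theorem isTorsZp_push {M : FSch.ModF (FSch.completionAlong X 𝓘) hX}
    (hM : FTors.IsTorsF (FSch.completionAlong X 𝓘) hX M) : FTors.IsTorsZp X 𝓘 ((κC 𝓘 hX).push.obj M) :=
  fun V t => isTorsSect_push 𝓘 hX M (hM (preC 𝓘 V) t)

theorem isTors_of_push {M : FSch.ModF (FSch.completionAlong X 𝓘) hX}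
    (hM : FTors.IsTorsZp X 𝓘 ((κC 𝓘 hX).push.obj M)) : FTors.IsTorsF (FSch.completionAlong X 𝓘) hX M := by
  have h𝔛 := S3854.result X 𝓘
  intro V t
  refine (FSchCoh.isTorsSect_iff h𝔛 t).2 fun x hx => ?_
  obtain ⟨W, hW, -, hle, hxW⟩ := exists_affine 𝓘 (W := ⊤) (x := x) trivial hx
  obtain ⟨W', hW', n, hxW', hk⟩ := (FSchCoh.isTorsSect_iff h𝔛 _).1
    (isTorsSect_of_push 𝓘 hX M (hM W (show ModSite.sect ((κC 𝓘 hX).push.obj M) W from rs M hle t))) x hxW
  refine ⟨W', le_trans hW' hle, n, hxW', ?_⟩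
  change FTors.KilledBy _ M n (rs M hW' (rs M hle t)) at hk
  rwa [RSFin.rs_rs] at hk

/-- inverse images of power torsion modules are torsion -/
theorem isTorsF_pull {N : ModSite.Mod X.sheaf} (hN : FTors.IsTorsZp X 𝓘 N) :
    FTors.IsTorsF (FSch.completionAlong X 𝓘) hX ((κC 𝓘 hX).pull.obj N) := by
  haveI := isIso_unitC 𝓘 hX hN
  refine isTors_of_push 𝓘 hX fun V t => ?_
  have h1 : t = RSFin.ap ((κC 𝓘 hX).adj.unit.app N) V (RSFin.ap (inv ((κC 𝓘 hX).adj.unit.app N)) V t) := by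
    rw [← RSFin.ap_comp, IsIso.inv_hom_id, RSFin.ap_id]
  rw [h1]
  exact (hN V _).hom ((κC 𝓘 hX).adj.unit.app N)

/-- the counit is bijective on torsion modules -/
theorem isIso_counitC {M : FSch.ModF (FSch.completionAlong X 𝓘) hX}
    (hM : FTors.IsTorsF (FSch.completionAlong X 𝓘) hX M) : IsIso ((κC 𝓘 hX).adj.counit.app M) := by
  haveI := isIso_unitC 𝓘 hX (isTorsZp_push 𝓘 hX hM)
  haveI : (κC 𝓘 hX).push.Faithful := ClosedPush.faithful (pC 𝓘) (cC 𝓘 hX) (isClosedEmbedding_pC 𝓘)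
  haveI : IsIso ((κC 𝓘 hX).adj.unit.app ((κC 𝓘 hX).push.obj M) ≫ (κC 𝓘 hX).push.map ((κC 𝓘 hX).adj.counit.app M)) := by
    rw [Adjunction.right_triangle_components]; infer_instance
  haveI : IsIso ((κC 𝓘 hX).push.map ((κC 𝓘 hX).adj.counit.app M)) :=
    IsIso.of_isIso_comp_left ((κC 𝓘 hX).adj.unit.app ((κC 𝓘 hX).push.obj M)) _
  exact isIso_of_reflects_iso _ (κC 𝓘 hX).push

end Groth.Agent.FSchTors
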