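import Groth.Agent.FSchTors.Derived
import Groth.Agent.FSchCoh.RpushCoprod
import Groth.Agent.InjHull.Noetherian
import Mathlib.Algebra.Category.ModuleCat.Products

/-!
# `RΓ'` preserves coproducts
-/

universe u

open CategoryTheory CategoryTheory.Limits AlgebraicGeometry TopologicalSpace Opposite
open scoped DirectSum

set_option autoImplicit false
set_option backward.isDefEq.respectTransparency false
set_option linter.style.haveILetI false

attribute [local instance] HasDerivedCategory.standard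

noncomputable section

namespace Groth.Agent.FSchTors

theorem sigmaComparison_comp {C D E : Type*} [Category C] [Category D] [Category E] (F : C ⥤ D) (G : D ⥤ E)
    {β : Type*} (Z : β → C) [HasCoproduct Z] [HasCoproduct fun b => F.obj (Z b)]
    [HasCoproduct fun b => (F ⋙ G).obj (Z b)] [HasCoproduct fun b => G.obj (F.obj (Z b))] :
    sigmaComparison (F ⋙ G) Z = sigmaComparison G (fun b => F.obj (Z b)) ≫ G.map (sigmaComparison F Z) := by
  refine Sigma.hom_ext _ _ fun t => ?_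
  exact (ι_comp_sigmaComparison (F ⋙ G) Z t).trans
    (((ι_comp_sigmaComparison_assoc G (fun b => F.obj (Z b)) t _).trans
      ((G.map_comp _ _).symm.trans (G.congr_map (ι_comp_sigmaComparison F Z t)))).symm)

section Module

variable {A : Type u} [CommRing A] (I : Ideal A) {ι : Type u} (Z : ι → ModuleCat.{u} A)

theorem sigma_decomp (z : (∐ Z : ModuleCat.{u} A)) :
    ∃ (S : Finset ι) (w : ∀ t, Z t), z = ∑ t ∈ S, Sigma.ι Z t (w t) ∧
      ∀ (a : A), a • z = 0 → ∀ t, a • w t = 0 := by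
  classical
  let e := (ModuleCat.coprodIsoDirectSum Z).toLinearEquiv
  have he : ∀ t w, e (Sigma.ι Z t w) = DirectSum.lof A ι (fun i => Z i) t w := fun t w =>
    congr($(ModuleCat.ι_coprodIsoDirectSum_hom Z t) w)
  refine ⟨DFinsupp.support (e z), fun t => e z t, e.injective ?_, fun a ha t => ?_⟩
  · rw [map_sum]
    simp only [he]
    exact (DFinsupp.sum_single (f := e z)).symm
  · have h := congrArg (fun d : ⨁ i, Z i => d t) ((map_smul e a z).symm.trans ((congrArg e ha).trans (map_zero e)))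
    exact h

theorem preservesCoproducts_gammaI :
    PreservesColimitsOfShape (Discrete ι) (DRing.gammaI I) := by
  refine ⟨fun {K} => ?_⟩
  suffices h : ∀ Z : ι → ModuleCat.{u} A, PreservesColimit (Discrete.functor Z) (DRing.gammaI I) by
    haveI := h fun t => K.obj ⟨t⟩
    exact preservesColimit_of_iso_diagram _ (Discrete.natIso fun _ => Iso.refl _ : Discrete.functor (fun t => K.obj ⟨t⟩) ≅ K)
  intro Z
  let σ := sigmaComparison (DRing.gammaI I) Z
  haveI : IsIso σ := by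
    rw [ConcreteCategory.isIso_iff_bijective]
    refine ⟨?_, fun z => ?_⟩
    · haveI : HasExactColimitsOfShape (Discrete ι) (ModuleCat.{u} A) := inferInstance
      haveI : ∀ t, Mono ((DRing.gammaIι I).app (Z t)) := fun t =>
        (ModuleCat.mono_iff_injective _).2 Subtype.val_injective
      have e : σ ≫ (DRing.gammaIι I).app (∐ Z) = Limits.Sigma.map fun t => (DRing.gammaIι I).app (Z t) := by
        refine Sigma.hom_ext _ _ fun t => ?_
        rw [ι_comp_sigmaComparison_assoc, Sigma.ι_map]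
        exact (DRing.gammaIι I).naturality (Sigma.ι Z t)
      haveI : Mono (Limits.Sigma.map fun t => (DRing.gammaIι I).app (Z t)) := inferInstance
      haveI : Mono (σ ≫ (DRing.gammaIι I).app (∐ Z)) := by rw [e]; infer_instance
      exact (ModuleCat.mono_iff_injective σ).1 (mono_of_mono σ ((DRing.gammaIι I).app (∐ Z)))
    · obtain ⟨n, hn⟩ := z.2
      obtain ⟨S, w, hz, hw⟩ := sigma_decomp Z z.1
      let w' : ∀ t, (DRing.gammaI I).obj (Z t) := fun t => ⟨w t, n, fun a ha => hw a (hn a ha) t⟩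
      refine ⟨∑ t ∈ S, Sigma.ι (fun t => (DRing.gammaI I).obj (Z t)) t (w' t), ?_⟩
      rw [map_sum]
      have h1 : ∀ t, σ (Sigma.ι (fun t => (DRing.gammaI I).obj (Z t)) t (w' t)) =
          (DRing.gammaI I).map (Sigma.ι Z t) (w' t) := fun t => congr($(ι_comp_sigmaComparison (DRing.gammaI I) Z t) (w' t))
      simp only [h1]
      refine Subtype.ext ((map_sum (DRing.torsionSub I (∐ Z : ModuleCat.{u} A)).subtype _ _).trans ?_)
      exact hz.symm
  exact PreservesCoproduct.of_iso_comparison _ _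

theorem injective_coproduct [IsNoetherianRing A] (hZ : ∀ t, Injective (Z t)) : Injective (∐ Z) := by
  classical
  haveI : Module.Injective A (⨁ t, Z t) := InjHull.injective_directSum (fun t => Z t) fun t =>
    Module.injective_module_of_injective_object A _ (inj := hZ t)
  exact Injective.of_iso (ModuleCat.coprodIsoDirectSum Z).symm
    (Module.injective_object_of_injective_module A (⨁ t, Z t))

end Module

variable {𝔛 : FSch.Sys.{u}} (h𝔛 : 𝔛.IsLocNoethFormal)

instance preservesColimits_stF {U : (𝔛.X 0).Opens} {x : 𝔛.X 0} (hx : x ∈ U) (ι : Type u) :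
    PreservesColimitsOfShape (Discrete ι) (stF h𝔛 hx) :=
  comp_preservesColimitsOfShape _ _

theorem preservesCoproducts_gammaT (ι : Type u) :
    PreservesColimitsOfShape (Discrete ι) (FTors.gammaT 𝔛 h𝔛.1) := by
  refine ⟨fun {K} => ?_⟩
  suffices h : ∀ Z : ι → FSch.ModF 𝔛 h𝔛.1, PreservesColimit (Discrete.functor Z) (FTors.gammaT 𝔛 h𝔛.1) by
    haveI := h fun t => K.obj ⟨t⟩
    exact preservesColimit_of_iso_diagram _ (Discrete.natIso fun _ => Iso.refl _ : Discrete.functor (fun t => K.obj ⟨t⟩) ≅ K)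
  intro Z
  let σ := sigmaComparison (FTors.gammaT 𝔛 h𝔛.1) Z
  haveI : IsIso σ := isIso_of_stA _ fun x => by
    obtain ⟨U, hU, hxU, -⟩ := exists_isAffineOpen_mem_and_subset (X := 𝔛.X 0) (x := x) (U := ⊤) trivial
    refine ⟨U, hxU, ?_⟩
    haveI := preservesCoproducts_gammaI (FSchCoh.JA 𝔛 h𝔛.1 U) (ι := ι)
    haveI : PreservesColimitsOfShape (Discrete ι) (FTors.gammaT 𝔛 h𝔛.1 ⋙ stF h𝔛 hxU) :=
      preservesColimitsOfShape_of_natIso (gammaIso h𝔛 hU hxU).symm
    have e : sigmaComparison (FTors.gammaT 𝔛 h𝔛.1 ⋙ stF h𝔛 hxU) Z =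
        sigmaComparison (stF h𝔛 hxU) (fun t => (FTors.gammaT 𝔛 h𝔛.1).obj (Z t)) ≫ (stF h𝔛 hxU).map σ := by
      exact sigmaComparison_comp (FTors.gammaT 𝔛 h𝔛.1) (stF h𝔛 hxU) Z
    haveI : IsIso (sigmaComparison (stF h𝔛 hxU) (fun t => (FTors.gammaT 𝔛 h𝔛.1).obj (Z t)) ≫
        (stF h𝔛 hxU).map σ) := e ▸ inferInstance
    exact IsIso.of_isIso_comp_left (sigmaComparison (stF h𝔛 hxU) fun t => (FTors.gammaT 𝔛 h𝔛.1).obj (Z t)) _
  exact PreservesCoproduct.of_iso_comparison _ _

theorem si_coproduct {ι : Type u} (C : ι → CochainComplex (FSch.ModF 𝔛 h𝔛.1) ℤ) (hC : ∀ t, SI h𝔛 (C t)) :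
    SI h𝔛 (∐ C) := fun {U} hU {x} hx i => by
  haveI : IsNoetherianRing (FSchCoh.OA 𝔛 h𝔛.1 U) := (FSchCoh.main 𝔛 h𝔛.1 h𝔛 hU).1
  haveI := injective_coproduct (fun t => ((stC h𝔛 hx).obj (C t)).X i) fun t => hC t hU hx i
  exact Injective.of_iso (PreservesCoproduct.iso
    (HomologicalComplex.eval (FSch.ModF 𝔛 h𝔛.1) (ComplexShape.up ℤ) i ⋙ stF h𝔛 hx) C).symm this

theorem preservesCoproducts_RgammaT [FTors.HasRgammaT 𝔛 h𝔛.1] (ι : Type u) :
    PreservesColimitsOfShape (Discrete ι) (FTors.RgammaT 𝔛 h𝔛.1) := by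
  refine ⟨fun {K} => ?_⟩
  haveI : IsGrothendieckAbelian.{u} (FSch.ModF 𝔛 h𝔛.1) := KFlat.isGrothendieck (𝔛.Osh h𝔛.1)
  haveI := preservesCoproducts_gammaT h𝔛 ι
  let R := FTors.RgammaT 𝔛 h𝔛.1
  let G := (FTors.gammaT 𝔛 h𝔛.1).mapHomologicalComplex (ComplexShape.up ℤ)
  haveI : PreservesColimitsOfShape (Discrete ι) G := inferInstance
  let qI := DerivedCategory.quotientCompQhIso (FSch.ModF 𝔛 h𝔛.1)
  choose C hC1 hC2 hC4 hCe using fun t : ι => exists_rep h𝔛 (K.obj ⟨t⟩)
  let e : ∀ t, DerivedCategory.Q.obj (C t) ≅ K.obj ⟨t⟩ := fun t =>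
    (qI.app (C t)).symm ≪≫ (hCe t).some
  obtain ⟨h⟩ := FSchCoh.exists_coprod_cofan (fun t => K.obj ⟨t⟩) C e
  let β : ∀ J, SI h𝔛 J → (DerivedCategory.Q.obj (gc h𝔛 J) ≅ R.obj (DerivedCategory.Q.obj J)) := fun J hJ =>
    haveI := isIso_gα h𝔛 hJ
    (qI.app (gc h𝔛 J)).symm ≪≫ asIso (gα h𝔛 J) ≪≫ R.mapIso (qI.app J)
  have hβ : ∀ J J' (hJ : SI h𝔛 J) (hJ' : SI h𝔛 J') (f : J ⟶ J'),
      DerivedCategory.Q.map (gm h𝔛 f) ≫ (β J' hJ').hom = (β J hJ).hom ≫ R.map (DerivedCategory.Q.map f) := by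
    intro J J' hJ hJ' f
    simp only [β, Iso.trans_hom, Iso.symm_hom, Iso.app_inv, asIso_hom, Functor.mapIso_hom, Iso.app_hom, Category.assoc]
    have n1 := qI.inv.naturality (gm h𝔛 f)
    have n2 := gα_natural h𝔛 f
    have n3 := R.congr_map (qI.hom.naturality f)
    simp only [Functor.comp_map, Functor.map_comp] at n1 n3
    rw [reassoc_of% n1]
    erw [reassoc_of% n2]
    rw [← n3]
  obtain ⟨h'⟩ := FSchCoh.exists_coprod_cofan (fun t => R.obj (K.obj ⟨t⟩)) (fun t => G.obj (C t))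
    fun t => β (C t) (hC2 t) ≪≫ R.mapIso (e t)
  haveI : PreservesColimit (Discrete.functor fun t => K.obj ⟨t⟩) R := by
    refine preservesColimit_of_preserves_colimit_cocone h ?_
    refine (IsColimit.precomposeHomEquiv (Discrete.natIso fun _ => Iso.refl _ :
      Discrete.functor (fun t => R.obj (K.obj ⟨t⟩)) ≅ Discrete.functor (fun t => K.obj ⟨t⟩) ⋙ R) _).1 ?_
    refine IsColimit.ofIsoColimit h' (Cocone.ext
      (DerivedCategory.Q.mapIso (PreservesCoproduct.iso G C).symm ≪≫ β (∐ C) (si_coproduct h𝔛 C hC2))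
      fun ⟨t⟩ => ?_)
    show ((β (C t) (hC2 t) ≪≫ R.mapIso (e t)).inv ≫ DerivedCategory.Q.map (Sigma.ι (fun t => G.obj (C t)) t)) ≫
        DerivedCategory.Q.map (PreservesCoproduct.iso G C).inv ≫ (β (∐ C) (si_coproduct h𝔛 C hC2)).hom =
      𝟙 _ ≫ R.map ((e t).inv ≫ DerivedCategory.Q.map (Sigma.ι C t))
    rw [Category.id_comp, Category.assoc, ← Functor.map_comp_assoc DerivedCategory.Q, PreservesCoproduct.inv_hom,
      ι_comp_sigmaComparison]
    erw [hβ (C t) (∐ C) (hC2 t) (si_coproduct h𝔛 C hC2) (Sigma.ι C t)]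
    simp
  exact preservesColimit_of_iso_diagram R
    (Discrete.natIso fun _ => Iso.refl _ : Discrete.functor (fun t => K.obj ⟨t⟩) ≅ K)

end Groth.Agent.FSchTors
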