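import Groth.Agent.FSchTors.Derived

/-!
# `D(A_t) → D(𝔛)` for the torsion modules on a locally noetherian formal scheme
-/

universe u

open CategoryTheory CategoryTheory.Limits AlgebraicGeometry TopologicalSpace Opposite

set_option autoImplicit false
set_option backward.isDefEq.respectTransparency false
set_option linter.style.haveILetI false

attribute [local instance] HasDerivedCategory.standard

noncomputable section

namespace Groth.Agent.FSchTors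

variable {𝔛 : FSch.Sys.{u}} (h𝔛 : 𝔛.IsLocNoethFormal)

theorem isTors_gammaT (M : FSch.ModF 𝔛 h𝔛.1) : FTors.IsTorsF 𝔛 h𝔛.1 ((FTors.gammaT 𝔛 h𝔛.1).obj M) :=
  isTors_of_stF h𝔛 fun hU _ hx => isPowerTorsion_of_iso ((gammaIso h𝔛 hU hx).app M) fun e => by
    obtain ⟨n, hn⟩ := e.2
    exact ⟨n, fun a ha => Subtype.ext (hn a ha)⟩

theorem isIso_gammaι {M : FSch.ModF 𝔛 h𝔛.1} (hM : FTors.IsTorsF 𝔛 h𝔛.1 M) :
    IsIso ((FTors.gammaTι 𝔛 h𝔛.1).app M) :=
  isIso_of_stA _ fun x => by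
    obtain ⟨U, hU, hxU, -⟩ := exists_isAffineOpen_mem_and_subset (X := 𝔛.X 0) (x := x) (U := ⊤) trivial
    exact ⟨U, hxU, (ConcreteCategory.isIso_iff_bijective _).2 ⟨stF_gammaι_injective h𝔛 hU hxU M,
      fun e => stF_gammaι_surjective h𝔛 hU hxU M e (isPowerTorsion_stF h𝔛 hM hU hxU e)⟩⟩

/-- the corestricted torsion functor -/
def coref : FSch.ModF 𝔛 h𝔛.1 ⥤ (FTors.IsTorsF 𝔛 h𝔛.1).FullSubcategory :=
  (FTors.IsTorsF 𝔛 h𝔛.1).lift (FTors.gammaT 𝔛 h𝔛.1) (isTors_gammaT h𝔛)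

theorem homEquiv_aux {T M : FSch.ModF 𝔛 h𝔛.1} (hT : FTors.IsTorsF 𝔛 h𝔛.1 T) (f : T ⟶ M) :
    ∃! g : T ⟶ (FTors.gammaT 𝔛 h𝔛.1).obj M, g ≫ (FTors.gammaTι 𝔛 h𝔛.1).app M = f := by
  haveI := isIso_gammaι h𝔛 hT
  haveI : Mono ((FTors.gammaTι 𝔛 h𝔛.1).app M) := RSFin.mono_of_injective _ fun V a b e => Subtype.ext e
  refine ⟨inv ((FTors.gammaTι 𝔛 h𝔛.1).app T) ≫ (FTors.gammaT 𝔛 h𝔛.1).map f, ?_, fun g hg => ?_⟩
  · have h := (FTors.gammaTι 𝔛 h𝔛.1).naturality f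
    simp only [Functor.id_map] at h
    simp only [Category.assoc]
    rw [IsIso.inv_comp_eq]
    exact h
  · rw [← cancel_mono ((FTors.gammaTι 𝔛 h𝔛.1).app M), hg, Category.assoc, eq_comm, IsIso.inv_comp_eq]
    exact (FTors.gammaTι 𝔛 h𝔛.1).naturality f

/-- the adjunction of the inclusion of torsion modules with `Γ'` -/
def adj : (FTors.IsTorsF 𝔛 h𝔛.1).ι ⊣ coref h𝔛 :=
  Adjunction.mkOfHomEquiv
    { homEquiv := fun T M =>
        { toFun := fun f => ObjectProperty.homMk (homEquiv_aux h𝔛 T.2 f).choose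
          invFun := fun g => g.hom ≫ (FTors.gammaTι 𝔛 h𝔛.1).app M
          left_inv := fun f => (homEquiv_aux h𝔛 T.2 f).choose_spec.1
          right_inv := fun g => ObjectProperty.hom_ext _
            ((homEquiv_aux h𝔛 T.2 _).choose_spec.2 g.hom rfl).symm }
      homEquiv_naturality_left_symm := fun f g => Category.assoc f.hom g.hom _
      homEquiv_naturality_right := fun {T M M'} f g => ObjectProperty.hom_ext _
        ((homEquiv_aux h𝔛 T.2 (f ≫ g)).choose_spec.2 _ (by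
          have h1 := (homEquiv_aux h𝔛 T.2 f).choose_spec.1
          refine (Category.assoc _ _ _).trans ?_
          erw [(FTors.gammaTι 𝔛 h𝔛.1).naturality g]
          exact (Category.assoc _ _ _).symm.trans (congrArg (· ≫ g) h1))).symm }

theorem adj_counit (M : FSch.ModF 𝔛 h𝔛.1) : (adj h𝔛).counit.app M = (FTors.gammaTι 𝔛 h𝔛.1).app M := by
  exact Category.id_comp _

variable [(FTors.IsTorsF 𝔛 h𝔛.1).ContainsZero] [(FTors.IsTorsF 𝔛 h𝔛.1).IsClosedUnderKernels]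
  [(FTors.IsTorsF 𝔛 h𝔛.1).IsClosedUnderCokernels] [(FTors.IsTorsF 𝔛 h𝔛.1).IsClosedUnderFiniteProducts]
  [PreservesFiniteLimits (FTors.IsTorsF 𝔛 h𝔛.1).ι] [PreservesFiniteColimits (FTors.IsTorsF 𝔛 h𝔛.1).ι]

/-- `ι` on complexes -/
abbrev ιC : CochainComplex (FTors.IsTorsF 𝔛 h𝔛.1).FullSubcategory ℤ ⥤ CochainComplex (FSch.ModF 𝔛 h𝔛.1) ℤ :=
  (FTors.IsTorsF 𝔛 h𝔛.1).ι.mapHomologicalComplex (ComplexShape.up ℤ)

/-- `ι` commutes with localization -/
abbrev fac : DerivedCategory.Q ⋙ (FTors.IsTorsF 𝔛 h𝔛.1).ι.mapDerivedCategory ≅ ιC h𝔛 ⋙ DerivedCategory.Q :=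
  (FTors.IsTorsF 𝔛 h𝔛.1).ι.mapDerivedCategoryFactors

instance additive_coref : (coref h𝔛).Additive := (adj h𝔛).right_adjoint_additive

/-- resolutions: every complex of torsion modules is quasi-isomorphic to `Γ'` of an injective resolution -/
theorem exists_resolution (T : CochainComplex (FTors.IsTorsF 𝔛 h𝔛.1).FullSubcategory ℤ) :
    ∃ (J : CochainComplex (FSch.ModF 𝔛 h𝔛.1) ℤ) (u : (ιC h𝔛).obj T ⟶ J) (_ : J.IsKInjective),
      QuasiIso u ∧ QuasiIso ((KInj.mapHomologicalComplexAdj (adj h𝔛) (ComplexShape.up ℤ)).homEquiv T J u) := by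
  obtain ⟨J, u, h1, h2, h3, -⟩ := exists_kinj h𝔛 ((ιC h𝔛).obj T)
  refine ⟨J, u, h1, h2, ?_⟩
  let A := KInj.mapHomologicalComplexAdj (adj h𝔛) (ComplexShape.up ℤ)
  haveI hJ : QuasiIso (gι h𝔛 J) := quasiIso_gι h𝔛 h3 fun i => by
    haveI : QuasiIsoAt u i := h2.quasiIsoAt i
    refine FSchCoh.isTors_of_epi h𝔛 (((T.sc i).mapHomologyIso (FTors.IsTorsF 𝔛 h𝔛.1).ι).symm ≪≫
      isoOfQuasiIsoAt u i).hom ?_
    exact (T.homology i).2
  have e : (ιC h𝔛).map (A.homEquiv T J u) ≫ gι h𝔛 J = u := by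
    have h := (A.homEquiv T J).symm_apply_apply u
    rw [Adjunction.homEquiv_counit] at h
    refine Eq.trans ?_ h
    congr 1
  haveI : QuasiIso ((ιC h𝔛).map (A.homEquiv T J u) ≫ gι h𝔛 J) := by rw [e]; exact h2
  haveI : QuasiIso ((ιC h𝔛).map (A.homEquiv T J u)) := quasiIso_of_comp_right _ (gι h𝔛 J)
  exact (HomologicalComplex.quasiIso_map_iff_of_preservesHomology _ (FTors.IsTorsF 𝔛 h𝔛.1).ι).1 this

theorem bijective_of_comp {C D : Type*} [Category C] [Category D] (P : C ⥤ D) {X Y : C} {Z W : D}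
    (a : Z ⟶ P.obj X) (b : P.obj Y ⟶ W) [IsIso a] [IsIso b]
    (h : Function.Bijective fun φ : X ⟶ Y => a ≫ P.map φ ≫ b) :
    Function.Bijective fun φ : X ⟶ Y => P.map φ :=
  ⟨fun φ₁ φ₂ e => h.1 (congrArg (fun z => a ≫ z ≫ b) e), fun ψ => by
    obtain ⟨φ, hφ⟩ := h.2 (a ≫ ψ ≫ b)
    exact ⟨φ, (cancel_mono b).1 ((cancel_epi a).1 hφ)⟩⟩

theorem preimage_aux {C D : Type*} [Category C] [Category D] (P : C ⥤ D) {X X' Y Y' : C}
    (eX : X' ≅ X) (eY : Y' ≅ Y) (ψ : P.obj X ⟶ P.obj Y) (φ : X' ⟶ Y')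
    (h : P.map φ = P.map eX.hom ≫ ψ ≫ P.map eY.inv) : P.map (eX.inv ≫ φ ≫ eY.hom) = ψ := by
  rw [P.map_comp, P.map_comp, h]
  simp

theorem full_faithful :
    (FTors.IsTorsF 𝔛 h𝔛.1).ι.mapDerivedCategory.Full ∧ (FTors.IsTorsF 𝔛 h𝔛.1).ι.mapDerivedCategory.Faithful := by
  let A := KInj.mapHomologicalComplexAdj (adj h𝔛) (ComplexShape.up ℤ)
  let P := (FTors.IsTorsF 𝔛 h𝔛.1).ι.mapDerivedCategory
  have key : ∀ S T : CochainComplex (FTors.IsTorsF 𝔛 h𝔛.1).FullSubcategory ℤ,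
      Function.Bijective (fun φ : DerivedCategory.Q.obj S ⟶ DerivedCategory.Q.obj T => P.map φ) := by
    intro S T
    obtain ⟨J, u, h1, h2, h3⟩ := exists_resolution h𝔛 T
    let v := A.homEquiv T J u
    haveI : QuasiIso v := h3
    haveI : CochainComplex.IsKInjective (((coref h𝔛).mapHomologicalComplex (ComplexShape.up ℤ)).obj J) :=
      KInj.isKInjective_rightAdjoint (adj h𝔛) J h1
    let Θ : (DerivedCategory.Q.obj S ⟶ DerivedCategory.Q.obj T) →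
        (DerivedCategory.Q.obj ((ιC h𝔛).obj S) ⟶ DerivedCategory.Q.obj J) :=
      fun φ => (fac h𝔛).inv.app S ≫ P.map φ ≫ (fac h𝔛).hom.app T ≫ DerivedCategory.Q.map u
    have hΘ : ∀ (f : S ⟶ ((coref h𝔛).mapHomologicalComplex (ComplexShape.up ℤ)).obj J),
        Θ (DerivedCategory.Q.map f ≫ inv (DerivedCategory.Q.map v)) =
          DerivedCategory.Q.map ((A.homEquiv S J).symm f) := by
      intro f
      have hu : u = (ιC h𝔛).map v ≫ A.counit.app J :=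
        (((A.homEquiv T J).symm_apply_apply u).symm).trans (Adjunction.homEquiv_counit _ _ _ _)
      show (fac h𝔛).inv.app S ≫ P.map _ ≫ (fac h𝔛).hom.app T ≫ DerivedCategory.Q.map u = _
      have hP : P.map (DerivedCategory.Q.map f ≫ inv (DerivedCategory.Q.map v)) ≫ P.map (DerivedCategory.Q.map v) =
          P.map (DerivedCategory.Q.map f) := by
        rw [← P.map_comp, Category.assoc, IsIso.inv_hom_id, Category.comp_id]
      rw [hu, Adjunction.homEquiv_counit, DerivedCategory.Q.map_comp, DerivedCategory.Q.map_comp]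
      have n1 := (fac h𝔛).hom.naturality v
      have n2 := (fac h𝔛).hom.naturality f
      simp only [Functor.comp_map] at n1 n2
      rw [← reassoc_of% n1, reassoc_of% hP, reassoc_of% n2]
      exact Iso.inv_hom_id_app_assoc _ _ _
    have hi : Function.Bijective Θ := by
      refine ⟨fun φ₁ φ₂ e => ?_, fun ψ => ?_⟩
      · obtain ⟨f₁, hf₁⟩ := KInj.Q_map_surjective (φ₁ ≫ DerivedCategory.Q.map v)
        obtain ⟨f₂, hf₂⟩ := KInj.Q_map_surjective (φ₂ ≫ DerivedCategory.Q.map v)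
        have r₁ : φ₁ = DerivedCategory.Q.map f₁ ≫ inv (DerivedCategory.Q.map v) := by rw [hf₁]; simp
        have r₂ : φ₂ = DerivedCategory.Q.map f₂ ≫ inv (DerivedCategory.Q.map v) := by rw [hf₂]; simp
        rw [r₁, r₂, hΘ, hΘ] at e
        obtain ⟨H⟩ := KInj.nonempty_homotopy_of_Q_map_eq e
        rw [r₁, r₂]
        congr 1
        have hh : A.homEquiv S J ((A.homEquiv S J).symm f₁) = f₁ := Equiv.apply_symm_apply _ _
        have hh' : A.homEquiv S J ((A.homEquiv S J).symm f₂) = f₂ := Equiv.apply_symm_apply _ _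
        rw [← hh, ← hh', Adjunction.homEquiv_unit, Adjunction.homEquiv_unit, Functor.map_comp, Functor.map_comp]
        congr 1
        exact KInj.mapQ_eq_of_homotopy (coref h𝔛) _ _ (Homotopy.equivSubZero.symm H)
      · obtain ⟨g, hg⟩ := KInj.Q_map_surjective ψ
        exact ⟨DerivedCategory.Q.map (A.homEquiv S J g) ≫ inv (DerivedCategory.Q.map v),
          (hΘ _).trans (by rw [Equiv.symm_apply_apply, hg])⟩
    haveI := h2
    exact bijective_of_comp P (X := DerivedCategory.Q.obj S) (Y := DerivedCategory.Q.obj T)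
      (Z := DerivedCategory.Q.obj ((ιC h𝔛).obj S)) (W := DerivedCategory.Q.obj J) _ _ hi
  refine ⟨⟨fun {X Y} ψ => ?_⟩, ⟨fun {X Y} φ₁ φ₂ e => ?_⟩⟩
  · let eX := DerivedCategory.Q.objObjPreimageIso X
    let eY := DerivedCategory.Q.objObjPreimageIso Y
    obtain ⟨φ, hφ⟩ := (key _ _).2 (P.map eX.hom ≫ ψ ≫ P.map eY.inv)
    exact ⟨eX.inv ≫ φ ≫ eY.hom, preimage_aux P eX eY ψ φ hφ⟩
  · let eX := DerivedCategory.Q.objObjPreimageIso X
    let eY := DerivedCategory.Q.objObjPreimageIso Y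
    have h := (key _ _).1 (a₁ := eX.hom ≫ φ₁ ≫ eY.inv) (a₂ := eX.hom ≫ φ₂ ≫ eY.inv) (by
      show P.map _ = P.map _
      simp only [Functor.map_comp, show P.map φ₁ = P.map φ₂ from e])
    simpa using h

theorem essImage_iff (G : DerivedCategory (FSch.ModF 𝔛 h𝔛.1)) :
    (FTors.IsTorsF 𝔛 h𝔛.1).ι.mapDerivedCategory.essImage G ↔ FTors.IsDTorsF 𝔛 h𝔛.1 G := by
  refine ⟨?_, fun hG => ?_⟩
  · rintro ⟨X, ⟨e⟩⟩ i
    let T := DerivedCategory.Q.objPreimage X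
    let e' : DerivedCategory.Q.obj ((ιC h𝔛).obj T) ≅ G := ((fac h𝔛).app T).symm ≪≫
      (FTors.IsTorsF 𝔛 h𝔛.1).ι.mapDerivedCategory.mapIso (DerivedCategory.Q.objObjPreimageIso X) ≪≫ e
    let f : ((T.sc i).map (FTors.IsTorsF 𝔛 h𝔛.1).ι).homology ≅
        (DerivedCategory.homologyFunctor (FSch.ModF 𝔛 h𝔛.1) i).obj G :=
      ((DerivedCategory.homologyFunctorFactors (FSch.ModF 𝔛 h𝔛.1) i).app ((ιC h𝔛).obj T)).symm ≪≫
        (DerivedCategory.homologyFunctor (FSch.ModF 𝔛 h𝔛.1) i).mapIso e'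
    exact FSchCoh.isTors_of_epi h𝔛 (((T.sc i).mapHomologyIso (FTors.IsTorsF 𝔛 h𝔛.1).ι).inv ≫ f.hom)
      (T.homology i).2
  · obtain ⟨J, -, h2, -, ⟨e⟩⟩ := exists_rep h𝔛 G
    haveI := quasiIso_gι h𝔛 h2 ((isDTors_iff h𝔛 e).1 hG)
    let RJ := ((coref h𝔛).mapHomologicalComplex (ComplexShape.up ℤ)).obj J
    exact ⟨DerivedCategory.Q.obj RJ, ⟨(fac h𝔛).app RJ ≪≫
      asIso (DerivedCategory.Q.map (gι h𝔛 J)) ≪≫
      ((DerivedCategory.quotientCompQhIso (FSch.ModF 𝔛 h𝔛.1)).app J).symm ≪≫ e⟩⟩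

end Groth.Agent.FSchTors
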