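import Groth.Agent.FSchTors.Torsion
import Groth.Agent.FSchCoh.QCTOps
import Groth.Agent.KInj.Existence
import Groth.Agent.KInj.Ops
import Groth.Agent.KInj.Adjunction
import Groth.Agent.KFlat.Site

/-!
# `RΓ'` of a locally noetherian formal scheme through complexes with injective stalks
-/

universe u

open CategoryTheory CategoryTheory.Limits AlgebraicGeometry TopologicalSpace Opposite

set_option autoImplicit false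
set_option backward.isDefEq.respectTransparency false
set_option backward.isDefEq.respectTransparency.types false
set_option linter.style.haveILetI false

attribute [local instance] HasDerivedCategory.standard

noncomputable section

namespace Groth.Agent.FSchTors

variable {𝔛 : FSch.Sys.{u}} (h𝔛 : 𝔛.IsLocNoethFormal)

/-- the image of a complex in the derived category, through the homotopy category -/
abbrev qh (J : CochainComplex (FSch.ModF 𝔛 h𝔛.1) ℤ) : DerivedCategory (FSch.ModF 𝔛 h𝔛.1) :=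
  DerivedCategory.Qh.obj ((HomotopyCategory.quotient (FSch.ModF 𝔛 h𝔛.1) (ComplexShape.up ℤ)).obj J)

/-- maps of complexes in the derived category -/
abbrev qhm {J J' : CochainComplex (FSch.ModF 𝔛 h𝔛.1) ℤ} (f : J ⟶ J') : qh h𝔛 J ⟶ qh h𝔛 J' :=
  DerivedCategory.Qh.map ((HomotopyCategory.quotient (FSch.ModF 𝔛 h𝔛.1) (ComplexShape.up ℤ)).map f)

lemma isIso_qhm {J J' : CochainComplex (FSch.ModF 𝔛 h𝔛.1) ℤ} (f : J ⟶ J') [QuasiIso f] : IsIso (qhm h𝔛 f) :=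
  (NatIso.isIso_map_iff (DerivedCategory.quotientCompQhIso (FSch.ModF 𝔛 h𝔛.1)) f).2 inferInstance

theorem exists_kinj (K : CochainComplex (FSch.ModF 𝔛 h𝔛.1) ℤ) :
    ∃ (J : CochainComplex (FSch.ModF 𝔛 h𝔛.1) ℤ) (u : K ⟶ J),
      J.IsKInjective ∧ QuasiIso u ∧ SI h𝔛 J ∧ ∀ i, Injective (J.X i) := by
  haveI : IsGrothendieckAbelian.{u} (FSch.ModF 𝔛 h𝔛.1) := KFlat.isGrothendieck (𝔛.Osh h𝔛.1)
  obtain ⟨J, u, h1, h2, -, h3⟩ := KInj.exists_kInjective K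
  exact ⟨J, u, h1, h2, si_of_injective h𝔛 h3, h3⟩

theorem exists_rep (X : DerivedCategory (FSch.ModF 𝔛 h𝔛.1)) :
    ∃ J : CochainComplex (FSch.ModF 𝔛 h𝔛.1) ℤ,
      J.IsKInjective ∧ SI h𝔛 J ∧ (∀ i, Injective (J.X i)) ∧ Nonempty (qh h𝔛 J ≅ X) := by
  obtain ⟨J, u, h1, h2, h3, h4⟩ := exists_kinj h𝔛 (DerivedCategory.Q.objPreimage X)
  exact ⟨J, h1, h3, h4, ⟨(DerivedCategory.quotientCompQhIso (FSch.ModF 𝔛 h𝔛.1)).app J ≪≫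
    (asIso (DerivedCategory.Q.map u)).symm ≪≫ DerivedCategory.Q.objObjPreimageIso X⟩⟩

lemma isDeforming : KInj.IsDeforming (DerivedCategory.Qh : _ ⥤ DerivedCategory (FSch.ModF 𝔛 h𝔛.1))
    (FTors.gammaKh (FTors.openIdealFam 𝔛 h𝔛.1)) (KInj.kinjProp (FSch.ModF 𝔛 h𝔛.1)) :=
  KInj.isDeforming_Qh (fun K => by obtain ⟨J, u, h1, h2, -⟩ := exists_kinj h𝔛 K; exact ⟨J, u, h1, h2⟩) _

theorem hasRgammaT : FTors.HasRgammaT 𝔛 h𝔛.1 :=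
  (isDeforming h𝔛).hasRightDerivedFunctor _

/-- the torsion property of a complex's cohomology, for the image in the derived category -/
theorem isDTors_iff {J : CochainComplex (FSch.ModF 𝔛 h𝔛.1) ℤ} {X : DerivedCategory (FSch.ModF 𝔛 h𝔛.1)}
    (e : qh h𝔛 J ≅ X) : FTors.IsDTorsF 𝔛 h𝔛.1 X ↔ ∀ i, FTors.IsTorsF 𝔛 h𝔛.1 (J.homology i) := by
  refine forall_congr' fun i => ?_
  let f : (DerivedCategory.homologyFunctor (FSch.ModF 𝔛 h𝔛.1) i).obj X ≅ J.homology i :=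
    (DerivedCategory.homologyFunctor (FSch.ModF 𝔛 h𝔛.1) i).mapIso
      (e.symm ≪≫ (DerivedCategory.quotientCompQhIso (FSch.ModF 𝔛 h𝔛.1)).app J) ≪≫
      (DerivedCategory.homologyFunctorFactors (FSch.ModF 𝔛 h𝔛.1) i).app J
  exact ⟨fun h => FSchCoh.isTors_of_epi h𝔛 f.hom h, fun h => FSchCoh.isTors_of_epi h𝔛 f.inv h⟩

/-- `Qh (Γ' J)` -/
abbrev qg (J : CochainComplex (FSch.ModF 𝔛 h𝔛.1) ℤ) : DerivedCategory (FSch.ModF 𝔛 h𝔛.1) :=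
  (FTors.gammaKh (FTors.openIdealFam 𝔛 h𝔛.1)).obj
    ((HomotopyCategory.quotient (FSch.ModF 𝔛 h𝔛.1) (ComplexShape.up ℤ)).obj J)

lemma gammaτ_app (J : CochainComplex (FSch.ModF 𝔛 h𝔛.1) ℤ) :
    (FTors.gammaτ (FTors.openIdealFam 𝔛 h𝔛.1)).app
        ((HomotopyCategory.quotient (FSch.ModF 𝔛 h𝔛.1) (ComplexShape.up ℤ)).obj J) = qhm h𝔛 (gι h𝔛 J) := by
  refine ((Category.id_comp _).trans ?_)
  rw [show gι h𝔛 J = (NatTrans.mapHomologicalComplex (FTors.gammaι (FTors.openIdealFam 𝔛 h𝔛.1))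
      (ComplexShape.up ℤ)).app J ≫
    (Functor.mapHomologicalComplexIdIso (FSch.ModF 𝔛 h𝔛.1) (ComplexShape.up ℤ)).hom.app J from
      HomologicalComplex.hom_ext _ _ fun _ => (Category.comp_id _).symm]
  simp only [qhm, Functor.map_comp]
  refine (congrArg (· ≫ _) ?_).trans (Category.id_comp _)
  exact DerivedCategory.Qh.map_id _

variable [FTors.HasRgammaT 𝔛 h𝔛.1]

/-- the unit of `RΓ'` -/
abbrev gα (J : CochainComplex (FSch.ModF 𝔛 h𝔛.1) ℤ) :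
    qg h𝔛 J ⟶ (FTors.RgammaT 𝔛 h𝔛.1).obj (qh h𝔛 J) :=
  ((FTors.gammaKh (FTors.openIdealFam 𝔛 h𝔛.1)).totalRightDerivedUnit DerivedCategory.Qh
      (HomotopyCategory.quasiIso (FSch.ModF 𝔛 h𝔛.1) (ComplexShape.up ℤ))).app
    ((HomotopyCategory.quotient (FSch.ModF 𝔛 h𝔛.1) (ComplexShape.up ℤ)).obj J)

lemma gα_natural {J J' : CochainComplex (FSch.ModF 𝔛 h𝔛.1) ℤ} (f : J ⟶ J') :
    qhm h𝔛 (gm h𝔛 f) ≫ gα h𝔛 J' = gα h𝔛 J ≫ (FTors.RgammaT 𝔛 h𝔛.1).map (qhm h𝔛 f) :=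
  ((FTors.gammaKh (FTors.openIdealFam 𝔛 h𝔛.1)).totalRightDerivedUnit DerivedCategory.Qh
      (HomotopyCategory.quasiIso (FSch.ModF 𝔛 h𝔛.1) (ComplexShape.up ℤ))).naturality
    ((HomotopyCategory.quotient (FSch.ModF 𝔛 h𝔛.1) (ComplexShape.up ℤ)).map f)

lemma gα_ε (J : CochainComplex (FSch.ModF 𝔛 h𝔛.1) ℤ) :
    gα h𝔛 J ≫ (FTors.RgammaTε 𝔛 h𝔛.1).app (qh h𝔛 J) = qhm h𝔛 (gι h𝔛 J) := by
  rw [FTors.RgammaTε, FTors.Rgammaε, gα, Functor.rightDerived_fac_app]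
  rw [NatTrans.comp_app]
  refine Eq.trans ?_ (gammaτ_app h𝔛 J)
  exact (congrArg (_ ≫ ·) (NatTrans.congr_app rfl _)).trans (Category.comp_id _)

theorem isIso_gα_kinj (J : CochainComplex (FSch.ModF 𝔛 h𝔛.1) ℤ) [J.IsKInjective] : IsIso (gα h𝔛 J) :=
  (isDeforming h𝔛).isIso_app (HomotopyCategory.quasiIso (FSch.ModF 𝔛 h𝔛.1) (ComplexShape.up ℤ)) _ _
    (I := (HomotopyCategory.quotient _ _).obj J) (show J.IsKInjective from inferInstance)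

/-- `RΓ'` is computed by complexes with injective stalks -/
theorem isIso_gα {J : CochainComplex (FSch.ModF 𝔛 h𝔛.1) ℤ} (hJ : SI h𝔛 J) : IsIso (gα h𝔛 J) := by
  obtain ⟨J', u, h1, h2, h3, -⟩ := exists_kinj h𝔛 J
  haveI := isIso_gα_kinj h𝔛 J'
  haveI := isIso_qhm h𝔛 u
  haveI := quasiIso_gm h𝔛 hJ h3 u
  haveI := isIso_qhm h𝔛 (gm h𝔛 u)
  have : IsIso (gα h𝔛 J ≫ (FTors.RgammaT 𝔛 h𝔛.1).map (qhm h𝔛 u)) := by
    rw [← gα_natural]; infer_instance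
  exact IsIso.of_isIso_comp_right (gα h𝔛 J) ((FTors.RgammaT 𝔛 h𝔛.1).map (qhm h𝔛 u))

/-- `Γ'` is idempotent on complexes -/
instance isIso_gm_gι (J : CochainComplex (FSch.ModF 𝔛 h𝔛.1) ℤ) : IsIso (gm h𝔛 (gι h𝔛 J)) :=
  haveI : ∀ i, IsIso ((gm h𝔛 (gι h𝔛 J)).f i) := fun i => isIso_of_stA _ fun x => by
    obtain ⟨U, hU, hxU, -⟩ := exists_isAffineOpen_mem_and_subset (X := 𝔛.X 0) (x := x) (U := ⊤) trivial
    refine ⟨U, hxU, ?_⟩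
    haveI : IsIso ((DRing.gammaI (FSchCoh.JA 𝔛 h𝔛.1 U)).map ((stF h𝔛 hxU).map ((gι h𝔛 J).f i))) := by
      rw [ConcreteCategory.isIso_iff_bijective]
      refine ⟨fun a b h => Subtype.ext (stF_gammaι_injective h𝔛 hU hxU (J.X i) (congrArg Subtype.val h)), fun z => ?_⟩
      obtain ⟨e, he⟩ := stF_gammaι_surjective h𝔛 hU hxU (J.X i) z.1 z.2
      obtain ⟨n, hn⟩ := z.2
      exact ⟨⟨e, n, fun a ha => stF_gammaι_injective h𝔛 hU hxU (J.X i) (by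
        rw [map_smul, map_zero, he]; exact hn a ha)⟩, Subtype.ext he⟩
    exact ((NatIso.isIso_map_iff (gammaIso h𝔛 hU hxU) ((gι h𝔛 J).f i))).2 ‹_›
  HomologicalComplex.Hom.isIso_of_components _

/-- `RΓ' (RΓ' X) → RΓ' X` is an isomorphism -/
theorem isIso_map_ε (X : DerivedCategory (FSch.ModF 𝔛 h𝔛.1)) :
    IsIso ((FTors.RgammaT 𝔛 h𝔛.1).map ((FTors.RgammaTε 𝔛 h𝔛.1).app X)) := by
  obtain ⟨J, -, h2, -, ⟨e⟩⟩ := exists_rep h𝔛 X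
  haveI := isIso_gα h𝔛 h2
  haveI := isIso_gα h𝔛 (h2.gc h𝔛)
  haveI := isIso_qhm h𝔛 (gm h𝔛 (gι h𝔛 J))
  have h : IsIso ((FTors.RgammaT 𝔛 h𝔛.1).map ((FTors.RgammaTε 𝔛 h𝔛.1).app (qh h𝔛 J))) := by
    have e' : gα h𝔛 (gc h𝔛 J) ≫ (FTors.RgammaT 𝔛 h𝔛.1).map (gα h𝔛 J) ≫
        (FTors.RgammaT 𝔛 h𝔛.1).map ((FTors.RgammaTε 𝔛 h𝔛.1).app (qh h𝔛 J)) =
        qhm h𝔛 (gm h𝔛 (gι h𝔛 J)) ≫ gα h𝔛 J := by
      rw [← Functor.map_comp, gα_ε, gα_natural]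
    have : IsIso (gα h𝔛 (gc h𝔛 J) ≫ (FTors.RgammaT 𝔛 h𝔛.1).map (gα h𝔛 J) ≫
        (FTors.RgammaT 𝔛 h𝔛.1).map ((FTors.RgammaTε 𝔛 h𝔛.1).app (qh h𝔛 J))) := by
      rw [e']; infer_instance
    haveI := IsIso.of_isIso_comp_left (gα h𝔛 (gc h𝔛 J)) ((FTors.RgammaT 𝔛 h𝔛.1).map (gα h𝔛 J) ≫
        (FTors.RgammaT 𝔛 h𝔛.1).map ((FTors.RgammaTε 𝔛 h𝔛.1).app (qh h𝔛 J)))
    exact IsIso.of_isIso_comp_left ((FTors.RgammaT 𝔛 h𝔛.1).map (gα h𝔛 J)) _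
  exact (NatTrans.isIso_app_iff_of_iso
    (Functor.whiskerRight (FTors.RgammaTε 𝔛 h𝔛.1) (FTors.RgammaT 𝔛 h𝔛.1)) e).1 h

/-- the two maps `RΓ' RΓ' X → RΓ' X` agree -/
theorem map_ε_eq (X : DerivedCategory (FSch.ModF 𝔛 h𝔛.1)) :
    (FTors.RgammaT 𝔛 h𝔛.1).map ((FTors.RgammaTε 𝔛 h𝔛.1).app X) =
      (FTors.RgammaTε 𝔛 h𝔛.1).app ((FTors.RgammaT 𝔛 h𝔛.1).obj X) := by
  obtain ⟨J, -, h2, -, ⟨e⟩⟩ := exists_rep h𝔛 X
  haveI := isIso_gα h𝔛 h2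
  haveI := isIso_gα h𝔛 (h2.gc h𝔛)
  suffices h : (FTors.RgammaT 𝔛 h𝔛.1).map ((FTors.RgammaTε 𝔛 h𝔛.1).app (qh h𝔛 J)) =
      (FTors.RgammaTε 𝔛 h𝔛.1).app ((FTors.RgammaT 𝔛 h𝔛.1).obj (qh h𝔛 J)) by
    have n1 := congrArg (FTors.RgammaT 𝔛 h𝔛.1).map ((FTors.RgammaTε 𝔛 h𝔛.1).naturality e.hom)
    have n2 := (FTors.RgammaTε 𝔛 h𝔛.1).naturality ((FTors.RgammaT 𝔛 h𝔛.1).map e.hom)
    simp only [Functor.id_map] at n1 n2
    rw [Functor.map_comp, Functor.map_comp, h] at n1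
    rw [← cancel_epi ((FTors.RgammaT 𝔛 h𝔛.1).map ((FTors.RgammaT 𝔛 h𝔛.1).map e.hom))]
    exact n1.trans n2.symm
  have hαι : gm h𝔛 (gι h𝔛 J) = gι h𝔛 (gc h𝔛 J) := by
    haveI : ∀ i, Mono ((gι h𝔛 J).f i) := fun i => RSFin.mono_of_injective _ fun V a b e => Subtype.ext e
    ext i : 1
    rw [← cancel_mono ((gι h𝔛 J).f i)]
    exact (FTors.gammaTι 𝔛 h𝔛.1).naturality ((gι h𝔛 J).f i)
  have n := (FTors.RgammaTε 𝔛 h𝔛.1).naturality (gα h𝔛 J)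
  simp only [Functor.id_map] at n
  rw [← cancel_epi (gα h𝔛 (gc h𝔛 J) ≫ (FTors.RgammaT 𝔛 h𝔛.1).map (gα h𝔛 J)), Category.assoc, Category.assoc,
    n, ← Functor.map_comp, gα_ε, ← gα_natural, hαι, ← gα_ε, Category.assoc]
  rfl

/-- `RΓ' X → X` is an isomorphism for torsion cohomology -/
theorem isIso_ε {X : DerivedCategory (FSch.ModF 𝔛 h𝔛.1)} (hX : FTors.IsDTorsF 𝔛 h𝔛.1 X) :
    IsIso ((FTors.RgammaTε 𝔛 h𝔛.1).app X) := by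
  obtain ⟨J, -, h2, -, ⟨e⟩⟩ := exists_rep h𝔛 X
  haveI := isIso_gα h𝔛 h2
  haveI := quasiIso_gι h𝔛 h2 ((isDTors_iff h𝔛 e).1 hX)
  haveI := isIso_qhm h𝔛 (gι h𝔛 J)
  have : IsIso (gα h𝔛 J ≫ (FTors.RgammaTε 𝔛 h𝔛.1).app (qh h𝔛 J)) := by rw [gα_ε]; infer_instance
  have := IsIso.of_isIso_comp_left (gα h𝔛 J) ((FTors.RgammaTε 𝔛 h𝔛.1).app (qh h𝔛 J))
  exact (NatTrans.isIso_app_iff_of_iso (FTors.RgammaTε 𝔛 h𝔛.1) e).1 this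

/-- the cohomology of `RΓ' X` is torsion -/
theorem isDTors_RgammaT (X : DerivedCategory (FSch.ModF 𝔛 h𝔛.1)) :
    FTors.IsDTorsF 𝔛 h𝔛.1 ((FTors.RgammaT 𝔛 h𝔛.1).obj X) := by
  obtain ⟨J, -, h2, -, ⟨e⟩⟩ := exists_rep h𝔛 X
  haveI := isIso_gα h𝔛 h2
  exact (isDTors_iff h𝔛 (J := gc h𝔛 J) (asIso (gα h𝔛 J) ≪≫ (FTors.RgammaT 𝔛 h𝔛.1).mapIso e)).2
    (isTors_homology_gc h𝔛 J)

end Groth.Agent.FSchTors
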