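import Groth.Agent.RSInj.Stalk
import Groth.Agent.RSStalk.Fib
import Groth.Agent.RSStalk.Pull
import Groth.Agent.FSchCoh.QCT
import Groth.Agent.FSchCoh.QCoh
import Groth.Prelude.Def_DRing3

/-!
# Stalks of modules on a formal scheme over the functions on an affine neighbourhood
-/

universe u

open CategoryTheory CategoryTheory.Limits AlgebraicGeometry TopologicalSpace Opposite
open Groth.Agent.RSFin (sc rsR rs gm gmR)

set_option autoImplicit false
set_option backward.isDefEq.respectTransparency false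
set_option linter.style.haveILetI false

noncomputable section

namespace Groth.Agent.FSchTors

section General

variable {X : TopCat.{u}} {O : TopCat.Sheaf CommRingCat.{u} X} {U : Opens X} {x : X}

/-- the stalk at `x ∈ U` as a module over the functions on `U` -/
def stA (O : TopCat.Sheaf CommRingCat.{u} X) {U : Opens X} {x : X} (hx : x ∈ U) :
    ModSite.Mod O ⥤ ModuleCat.{u} (sc O U) :=
  RSStalk.st O x ⋙ ModuleCat.restrictScalars ((RSStalk.rg O).germ U x hx).hom

instance preservesFiniteLimits_stA (hx : x ∈ U) : PreservesFiniteLimits (stA O hx) :=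
  comp_preservesFiniteLimits _ _

instance preservesFiniteColimits_stA (hx : x ∈ U) : PreservesFiniteColimits (stA O hx) :=
  comp_preservesFiniteColimits _ _

instance additive_stA (hx : x ∈ U) : (stA O hx).Additive :=
  Functor.additive_of_preserves_binary_products _

/-- the germ of a section, in the stalk -/
def gst (F : ModSite.Mod O) (hx : x ∈ U) {V : Opens X} (hV : x ∈ V) : ModSite.sect F V →+ (stA O hx).obj F where
  toFun t := RSStalk.fibAdd F x (gm F hV t)
  map_zero' := by rw [map_zero, map_zero]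
  map_add' a b := by rw [map_add, map_add]

theorem fibIso_gmR {V : Opens X} (hV : x ∈ V) (a : sc O V) :
    (RSStalk.fibIso O.obj x).hom.hom (gmR O hV a) = (RSStalk.rg O).germ V x hV a :=
  ConcreteCategory.congr_hom (RSStalk.toFiber_fibHom O.obj x V ⟨⟨hV⟩⟩) a

theorem gst_smul (F : ModSite.Mod O) (hx : x ∈ U) {V : Opens X} (hV : x ∈ V) (h : V ≤ U) (a : sc O U)
    (t : ModSite.sect F V) : gst F hx hV (rsR h a • t) = a • gst F hx hV t := by
  show RSStalk.fibAdd F x (gm F hV (rsR h a • t)) = (RSStalk.rg O).germ U x hx a • RSStalk.fibAdd F x (gm F hV t)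
  rw [RSFin.gm_smul, RSFin.gmR_rs, RSStalk.fibAdd_smul, fibIso_gmR]

theorem gst_rs (F : ModSite.Mod O) (hx : x ∈ U) {W V : Opens X} (h : W ≤ V) (hW : x ∈ W) (t : ModSite.sect F V) :
    gst F hx hW (rs F h t) = gst F hx (h hW) t :=
  congrArg (RSStalk.fibAdd F x) (RSFin.gm_rs F h hW t)

theorem exists_gst (F : ModSite.Mod O) (hx : x ∈ U) (e : (stA O hx).obj F) :
    ∃ (V : Opens X) (_ : V ≤ U) (hV : x ∈ V) (t : ModSite.sect F V), gst F hx hV t = e := by
  obtain ⟨V, hV, t, ht⟩ := RSFin.exists_gm F x ((RSStalk.fibAdd F x).symm e)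
  refine ⟨U ⊓ V, inf_le_left, ⟨hx, hV⟩, rs F inf_le_right t, ?_⟩
  rw [gst_rs]
  show RSStalk.fibAdd F x (gm F hV t) = e
  rw [ht]
  exact (RSStalk.fibAdd F x).apply_symm_apply e

theorem gst_eq_zero (F : ModSite.Mod O) (hx : x ∈ U) {V : Opens X} (hV : x ∈ V) {t : ModSite.sect F V}
    (h : gst F hx hV t = 0) : ∃ (W : Opens X) (hW : W ≤ V), x ∈ W ∧ rs F hW t = 0 := by
  have h1 : gm F hV t = gm F hV 0 := (RSStalk.fibAdd F x).injective
    (h.trans (by rw [map_zero, map_zero]))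
  obtain ⟨W, hW, hxW, e⟩ := RSFin.eq_of_gm_eq F hV h1
  exact ⟨W, hW, hxW, by rw [e, map_zero]⟩

theorem gst_map {F G : ModSite.Mod O} (φ : F ⟶ G) (hx : x ∈ U) {V : Opens X} (hV : x ∈ V)
    (t : ModSite.sect F V) : (stA O hx).map φ (gst F hx hV t) = gst G hx hV (RSFin.ap φ V t) := by
  show RSStalk.pstMap ((RSStalk.toP O).map φ) x (RSStalk.fibAdd F x (gm F hV t)) =
    RSStalk.fibAdd G x (gm G hV (RSFin.ap φ V t))
  erw [RSStalk.fibAdd_germ, RSStalk.pstMap_germ, RSStalk.fibAdd_germ]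
  rfl

/-- morphisms which are isomorphisms on all these stalks are isomorphisms -/
theorem isIso_of_stA {M N : ModSite.Mod O} (φ : M ⟶ N)
    (h : ∀ x : X, ∃ (U : Opens X) (hx : x ∈ U), IsIso ((stA O hx).map φ)) : IsIso φ :=
  RSStalk.isIso_of_stalks φ fun x => by
    obtain ⟨U, hx, hi⟩ := h x
    haveI : IsIso ((ModuleCat.restrictScalars ((RSStalk.rg O).germ U x hx).hom).map ((RSStalk.st O x).map φ)) := hi
    exact isIso_of_reflects_iso _ (ModuleCat.restrictScalars ((RSStalk.rg O).germ U x hx).hom)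

/-- stalks of injective sheaves of modules -/
theorem injective_stA (I : ModSite.Mod O) [Injective I] (hx : x ∈ U) [IsNoetherianRing (sc O U)]
    (hU : RSInj.HasRelGen O U) : Injective ((stA O hx).obj I) := by
  letI := RSInj.stAlg hx I
  haveI : Module.Injective (sc O U) (RSFin.stM I x) := RSInj.injective_stalk I hx hU
  let e0 : RSFin.stM I x ≃+ (stA O hx).obj I := RSStalk.fibAdd I x
  let e : RSFin.stM I x ≃ₗ[sc O U] (stA O hx).obj I :=
    e0.toLinearEquiv fun a m => by
      show RSStalk.fibAdd I x (gmR O hx a • m) = (RSStalk.rg O).germ U x hx a • RSStalk.fibAdd I x m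
      rw [RSStalk.fibAdd_smul, fibIso_gmR]
  haveI : Injective (ModuleCat.of (sc O U) (RSFin.stM I x)) :=
    Module.injective_object_of_injective_module (sc O U) (RSFin.stM I x)
  exact Injective.of_iso e.toModuleIso inferInstance

end General

variable {𝔛 : FSch.Sys.{u}} (h𝔛 : 𝔛.IsLocNoethFormal)

theorem hasRelGen {U : (𝔛.X 0).Opens} (hU : IsAffineOpen U) : RSInj.HasRelGen (𝔛.Osh h𝔛.1) U := by
  intro k a
  obtain ⟨κ, hκ, e, he, hgen⟩ := FSchCoh.exists_vec_rel h𝔛 hU (fun _ : Fin 1 => a)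
  exact ⟨κ, hκ, e, fun l => he l 0, fun V h c hc y hy => hgen h c (fun _ => hc) y hy⟩

/-- the stalk functor on modules on a formal scheme -/
abbrev stF {U : (𝔛.X 0).Opens} {x : 𝔛.X 0} (hx : x ∈ U) :
    FSch.ModF 𝔛 h𝔛.1 ⥤ ModuleCat.{u} (FSchCoh.OA 𝔛 h𝔛.1 U) :=
  stA (𝔛.Osh h𝔛.1) hx

theorem injective_stF {U : (𝔛.X 0).Opens} (hU : IsAffineOpen U) {x : 𝔛.X 0} (hx : x ∈ U) (I : FSch.ModF 𝔛 h𝔛.1)
    [Injective I] : Injective ((stF h𝔛 hx).obj I) := by
  haveI : IsNoetherianRing (sc (𝔛.Osh h𝔛.1) U) := (FSchCoh.main 𝔛 h𝔛.1 h𝔛 hU).1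
  exact injective_stA I hx (hasRelGen h𝔛 hU)

end Groth.Agent.FSchTors
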